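import Mathlib
import Cfsg.Agent.TID.Syl.Transfer

/-!
# S4622, Sylow rows: going down to a normal subgroup (helper17)

`PermAt.descend` : `f : H →* G` injective with normal range of index prime to `p`; if the characters of `N(P)` with
`nu = h` restrict irreducibly, then `PermAt` passes from `G` to `H`.
-/

set_option autoImplicit false
set_option linter.unusedSectionVars false
set_option maxHeartbeats 400000

namespace Cfsg.Agent.TID.Rk1

open Cfsg Cfsg.Agent.Characters.Core Cfsg.Agent.Characters Cfsg.Agent.TID.Syl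
open Cfsg.Agent.TID.Blk (Nm)
open scoped ComplexConjugate

universe u v

theorem exists_over_inj {H : Type v} [Group H] [Fintype H] {G : Type u} [Group G] [Finite G] (f : H →* G)
    (hf : Function.Injective f) {θ : H → ℂ} (hθ : IsIrrCharacter H θ) :
    ∃ χ : G → ℂ, IsIrrCharacter G χ ∧ classInner (χ ∘ f) θ ≠ 0 := by
  have := Fintype.ofFinite f.range
  let e : H ≃* f.range := MonoidHom.ofInjective hf
  have h1 : IsIrrCharacter f.range (θ ∘ e.symm.toMonoidHom) := isIrr_comp _ e.symm.surjective hθ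
  obtain ⟨χ, hχ, h2⟩ := H672.exists_over_subtype f.range h1
  refine ⟨χ, hχ, ?_⟩
  rw [H672.over_iff] at h2
  intro h3
  apply h2
  rw [← h3, classInner_def, classInner_def, Nat.card_congr e.toEquiv]
  congr 1
  refine (Fintype.sum_equiv e.toEquiv _ _ fun x => ?_).symm
  simp only [Function.comp_apply, MulEquiv.toEquiv_eq_coe, EquivLike.coe_coe, MulEquiv.toMonoidHom_eq_coe,
    MonoidHom.coe_coe, MulEquiv.symm_apply_apply]
  rfl

theorem unit_of_sq {I : Type u} (A : Finset I) (m : I → ℕ) (h : ∑ i ∈ A, m i * m i = 1) :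
    ∃ i ∈ A, m i = 1 ∧ ∀ j ∈ A, j ≠ i → m j = 0 := by
  classical
  obtain ⟨i, hi, hi0⟩ := Finset.exists_ne_zero_of_sum_ne_zero (s := A) (f := fun i => m i * m i) (by rw [h]; omega)
  have h5 : 1 ≤ m i * m i := Nat.pos_of_ne_zero hi0
  refine ⟨i, hi, ?_, fun j hj hne => ?_⟩
  · have h6 := Finset.single_le_sum (f := fun j => m j * m j) (fun _ _ => Nat.zero_le _) hi
    have h7 : m i * m i = 1 := by omega
    exact Nat.eq_one_of_mul_eq_one_left h7
  · have h6 : ∑ x ∈ ({j, i} : Finset I), m x * m x ≤ ∑ j ∈ A, m j * m j :=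
      Finset.sum_le_sum_of_subset (by
        intro x hx
        rcases Finset.mem_insert.1 hx with rfl | hx
        · exact hj
        · rw [Finset.mem_singleton.1 hx]; exact hi)
    rw [Finset.sum_pair hne] at h6
    have h7 : m j * m j = 0 := by omega
    exact (Nat.mul_eq_zero.1 h7).elim id id

variable {G : Type u} [Group G] [Finite G] {p : ℕ} {P : Subgroup G} {h : ℕ} {H : Type v} [Group H] [Finite H]
  [hp : Fact p.Prime]

/-- **Going down.** -/
theorem descend {f : H →* G} {P₀ : Subgroup H} (hf : Hom f P₀ P) (hinj : Function.Injective f)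
    (hn : f.range.Normal) (hidx : ¬ p ∣ f.range.index)
    (hirr : ∀ ψ : IrrCharacter (Nm P), nu p (ψ : Nm P → ℂ) = h → IsIrrCharacter (Nm P₀) ((ψ : Nm P → ℂ) ∘ hf.fN))
    (H1 : PermAt p P h) : PermAt p P₀ h := by
  classical
  have := Fintype.ofFinite G
  have := Fintype.ofFinite H
  have := Fintype.ofFinite (Nm P)
  have := Fintype.ofFinite (Nm P₀)
  have := finite_irr (G := G)
  have := finite_irr (G := H)
  have := finite_irr (G := Nm P)
  have := finite_irr (G := Nm P₀)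
  have := Fintype.ofFinite (IrrCharacter G)
  have := Fintype.ofFinite (IrrCharacter H)
  have := Fintype.ofFinite (IrrCharacter (Nm P))
  have := Fintype.ofFinite (IrrCharacter (Nm P₀))
  have hn' : hf.fN.range.Normal := by rw [hf.range_fN]; infer_instance
  have hidx' : ¬ p ∣ hf.fN.range.index := by
    rw [hf.range_fN]
    exact fun h1 => hidx (h1.trans (Subgroup.relIndex_dvd_index_of_normal _ _))
  have hinj' : Function.Injective hf.fN := fun a b hab => Subtype.ext (hinj (congrArg Subtype.val hab))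
  have h1 : ∀ (θ : IrrCharacter H) (η : IrrCharacter (Nm P₀)), ∃ n : ℕ, mm P₀ θ η = n :=
    fun θ η => mm_nat θ.2 (isIrr_isCharacter η.2)
  choose m hm using h1
  set A := Finset.univ.filter (fun χ : IrrCharacter G => nu p (χ : G → ℂ) = h) with hA
  set B := Finset.univ.filter (fun ψ : IrrCharacter (Nm P) => nu p (ψ : Nm P → ℂ) = h) with hB
  set A₀ := Finset.univ.filter (fun θ : IrrCharacter H => nu p (θ : H → ℂ) = h) with hA₀
  set B₀ := Finset.univ.filter (fun η : IrrCharacter (Nm P₀) => nu p (η : Nm P₀ → ℂ) = h) with hB₀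
  have zA : ∀ (χ : IrrCharacter G) (θ : IrrCharacter H), (χ ∈ A ↔ θ ∉ A₀) →
      classInner ((χ : G → ℂ) ∘ f) (θ : H → ℂ) = 0 := by
    intro χ θ h2
    by_contra h3
    have h4 := nu_eq_of_inner f hn hidx χ.2 θ.2 h3
    simp only [hA, hA₀, Finset.mem_filter, Finset.mem_univ, true_and, h4] at h2
    exact iff_not_self h2
  have zB : ∀ (ψ : IrrCharacter (Nm P)) (η : IrrCharacter (Nm P₀)), (ψ ∈ B ↔ η ∉ B₀) →
      classInner ((ψ : Nm P → ℂ) ∘ hf.fN) (η : Nm P₀ → ℂ) = 0 := by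
    intro ψ η h2
    by_contra h3
    have h4 := nu_eq_of_inner hf.fN hn' hidx' ψ.2 η.2 h3
    simp only [hB, hB₀, Finset.mem_filter, Finset.mem_univ, true_and, h4] at h2
    exact iff_not_self h2
  have sg : ∀ (χ : IrrCharacter G) (θ : IrrCharacter H), sgn P χ * classInner ((χ : G → ℂ) ∘ f) (θ : H → ℂ) =
      sgn P₀ θ * classInner ((χ : G → ℂ) ∘ f) (θ : H → ℂ) := by
    intro χ θ
    by_cases h2 : classInner ((χ : G → ℂ) ∘ f) (θ : H → ℂ) = 0
    · rw [h2, mul_zero, mul_zero]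
    · rw [hf.sgn_eq χ.2 θ.2 h2]
  -- the restriction
  have hR : ∀ χ ∈ A, ∀ η ∈ B₀, ∑ ψ ∈ B, mm P χ ψ * classInner ((ψ : Nm P → ℂ) ∘ hf.fN) (η : Nm P₀ → ℂ) =
      ∑ θ ∈ A₀, classInner ((χ : G → ℂ) ∘ f) (θ : H → ℂ) * mm P₀ θ η := by
    intro χ hχ η hη
    have hcl := isIrr_isClassFunction χ.2
    have hcf : IsClassFunction H ((χ : G → ℂ) ∘ f) :=
      isCharacter_isClassFunction (isCharacter_comp f (isIrr_isCharacter χ.2))
    rw [Finset.sum_subset (Finset.subset_univ B) fun ψ _ h2 => by rw [zB ψ η (by tauto), mul_zero],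
      Finset.sum_subset (Finset.subset_univ A₀) fun θ _ h2 => by rw [zA χ θ (by tauto), zero_mul]]
    simp only [mm_eq_sgn, mul_assoc]
    rw [← Finset.mul_sum, ← inner_comp_eq hf.fN (Brauer.isClassFunction_restrict (du_class P hcl) _),
      hf.rs_comp, hf.du_comp hcl, ← inner_ind_right P₀ _ (du_class P₀ hcf), inner_du P₀ hcf (ind_class P₀ _),
      inner_eq_sum_left hcf, Finset.mul_sum]
    refine Finset.sum_congr rfl fun θ _ => ?_
    rw [← mul_assoc, sg, ← inner_du P₀ (isIrr_isClassFunction θ.2) (ind_class P₀ _),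
      inner_ind_right P₀ _ (du_class P₀ (isIrr_isClassFunction θ.2))]
    ring
  -- the induction
  have hI : ∀ ψ ∈ B, ∀ θ ∈ A₀, ∑ χ ∈ A, mm P χ ψ * classInner ((χ : G → ℂ) ∘ f) (θ : H → ℂ) =
      ∑ η ∈ B₀, classInner ((ψ : Nm P → ℂ) ∘ hf.fN) (η : Nm P₀ → ℂ) * mm P₀ θ η := by
    intro ψ hψ θ hθ
    have hcl := isIrr_isClassFunction ψ.2
    have hcf : IsClassFunction (Nm P₀) ((ψ : Nm P → ℂ) ∘ hf.fN) :=
      isCharacter_isClassFunction (isCharacter_comp hf.fN (isIrr_isCharacter ψ.2))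
    have hθc := isIrr_isClassFunction θ.2
    rw [Finset.sum_subset (Finset.subset_univ A) fun χ _ h2 => by rw [zA χ θ (by tauto), mul_zero],
      Finset.sum_subset (Finset.subset_univ B₀) fun η _ h2 => by rw [zB ψ η (by tauto), zero_mul]]
    have e1 : ∀ χ : IrrCharacter G, mm P χ ψ = sgn P χ * classInner (du P (ind P ψ)) (χ : G → ℂ) := by
      intro χ
      obtain ⟨n, hn⟩ := mm_nat (P := P) χ.2 (isIrr_isCharacter ψ.2)
      have h2 : conj (mm P χ ψ) = mm P χ ψ := by rw [hn, Complex.conj_natCast]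
      rw [← h2, mm_eq_sgn, map_mul, conj_sgn, classInner_conj_symm,
        ← inner_ind_left P _ (du_class P (isIrr_isClassFunction χ.2)),
        ← inner_du P (ind_class P _) (isIrr_isClassFunction χ.2)]
    have e2 : ∀ η : IrrCharacter (Nm P₀), mm P₀ θ η = sgn P₀ θ * classInner (η : Nm P₀ → ℂ) (rs P₀ (du P₀ θ)) := by
      intro η
      obtain ⟨n, hn⟩ := mm_nat (P := P₀) θ.2 (isIrr_isCharacter η.2)
      have h2 : conj (mm P₀ θ η) = mm P₀ θ η := by rw [hn, Complex.conj_natCast]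
      rw [← h2, mm_eq_sgn, map_mul, conj_sgn, classInner_conj_symm]
    have e3 : ∀ χ : IrrCharacter G, mm P χ ψ * classInner ((χ : G → ℂ) ∘ f) (θ : H → ℂ) =
        sgn P₀ θ * (classInner (du P (ind P ψ)) (χ : G → ℂ) * classInner ((χ : G → ℂ) ∘ f) (θ : H → ℂ)) := by
      intro χ
      rw [e1, mul_right_comm, sg]
      ring
    simp only [e2, e3]
    rw [← Finset.mul_sum, ← inner_comp_eq f (du_class P (ind_class P _)), hf.du_comp (ind_class P _),
      hf.ind_comp hcl, inner_du P₀ (ind_class P₀ _) hθc, inner_ind_left P₀ _ (du_class P₀ hθc),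
      inner_eq_sum_left hcf, Finset.mul_sum]
    exact Finset.sum_congr rfl fun η _ => by ring
  have memA : ∀ χ : IrrCharacter G, χ ∈ A ↔ nu p (χ : G → ℂ) = h := fun χ => by simp [hA]
  have memB : ∀ ψ : IrrCharacter (Nm P), ψ ∈ B ↔ nu p (ψ : Nm P → ℂ) = h := fun χ => by simp [hB]
  have memA₀ : ∀ θ : IrrCharacter H, θ ∈ A₀ ↔ nu p (θ : H → ℂ) = h := fun χ => by simp [hA₀]
  have memB₀ : ∀ η : IrrCharacter (Nm P₀), η ∈ B₀ ↔ nu p (η : Nm P₀ → ℂ) = h := fun χ => by simp [hB₀]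
  -- a matched pair
  have key : ∀ χ ∈ A, ∀ ψ ∈ B, (∀ ψ' ∈ B, mm P χ ψ' = if ψ' = ψ then 1 else 0) →
      (∀ χ' ∈ A, mm P χ' ψ = if χ' = χ then 1 else 0) → ∀ η₀ ∈ B₀, (ψ : Nm P → ℂ) ∘ hf.fN = η₀ →
      (∀ θ ∈ A₀, classInner ((χ : G → ℂ) ∘ f) (θ : H → ℂ) = m θ η₀) ∧
      ∀ η ∈ B₀, ∑ θ ∈ A₀, m θ η₀ * m θ η = if η₀ = η then 1 else 0 := by
    intro χ hχ ψ hψ k1 k2 η₀ hη₀ k3
    have k4 : ∀ η : IrrCharacter (Nm P₀), classInner ((ψ : Nm P → ℂ) ∘ hf.fN) (η : Nm P₀ → ℂ) =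
        if η₀ = η then 1 else 0 := by
      intro η
      rw [k3]
      split_ifs with h2
      · rw [h2, classInner_irr_self η.2]
      · exact classInner_irr_ne η₀.2 η.2 fun h3 => h2 (Subtype.ext h3)
    have k5 : ∀ θ ∈ A₀, classInner ((χ : G → ℂ) ∘ f) (θ : H → ℂ) = m θ η₀ := by
      intro θ hθ
      have h2 := hI ψ hψ θ hθ
      rw [Finset.sum_congr rfl fun χ' h3 => by rw [k2 χ' h3],
        Finset.sum_congr (s₁ := B₀) rfl fun η _ => by rw [k4 η]] at h2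
      simp only [ite_mul, one_mul, zero_mul, Finset.sum_ite_eq, Finset.sum_ite_eq', if_pos hχ, if_pos hη₀] at h2
      rw [h2, hm]
    refine ⟨k5, fun η hη => ?_⟩
    have h2 := hR χ hχ η hη
    rw [Finset.sum_congr rfl fun ψ' h3 => by rw [k1 ψ' h3],
      Finset.sum_congr (s₁ := A₀) rfl fun θ h3 => by rw [k5 θ h3, hm]] at h2
    simp only [ite_mul, one_mul, zero_mul, Finset.sum_ite_eq', if_pos hψ] at h2
    rw [k4] at h2
    have h3 : ((∑ θ ∈ A₀, m θ η₀ * m θ η : ℕ) : ℂ) = ((if η₀ = η then 1 else 0 : ℕ) : ℂ) := by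
      push_cast
      exact h2.symm
    exact_mod_cast h3
  have rowf : ∀ χ ∈ A, ∀ ψ ∈ B, mm P χ ψ = 1 → (∀ ψ' ∈ B, mm P χ ψ' = if ψ' = ψ then 1 else 0) ∧
      (∀ χ' ∈ A, mm P χ' ψ = if χ' = χ then 1 else 0) := by
    intro χ hχ ψ hψ h2
    constructor
    · obtain ⟨ψ₁, -, -, h5⟩ := H1.row χ ((memA χ).1 hχ)
      have h6 : ψ = ψ₁ := by
        by_contra h7
        rw [h5 ψ ((memB ψ).1 hψ) h7] at h2
        exact zero_ne_one h2
      subst h6
      intro ψ' h7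
      split_ifs with h8
      · rw [h8, h2]
      · exact h5 ψ' ((memB ψ').1 h7) h8
    · obtain ⟨χ₁, -, -, h5⟩ := H1.col ψ ((memB ψ).1 hψ)
      have h6 : χ = χ₁ := by
        by_contra h7
        rw [h5 χ ((memA χ).1 hχ) h7] at h2
        exact zero_ne_one h2
      subst h6
      intro χ' h7
      split_ifs with h8
      · rw [h8, h2]
      · exact h5 χ' ((memA χ').1 h7) h8
  have res : ∀ ψ ∈ B, ∃ η₀ ∈ B₀, (ψ : Nm P → ℂ) ∘ hf.fN = η₀ := by
    intro ψ hψ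
    have h2 := hirr ψ ((memB ψ).1 hψ)
    refine ⟨⟨_, h2⟩, (memB₀ _).2 ?_, rfl⟩
    rw [← (memB ψ).1 hψ]
    refine (nu_eq_of_inner hf.fN hn' hidx' ψ.2 h2 ?_).symm
    rw [classInner_irr_self h2]
    exact one_ne_zero
  have ortho : ∀ η₀ ∈ B₀, ∀ η ∈ B₀, ∑ θ ∈ A₀, m θ η₀ * m θ η = if η₀ = η then 1 else 0 := by
    intro η₀ hη₀
    obtain ⟨ψ, hψ, h2⟩ := exists_over_inj hf.fN hinj' η₀.2
    have h3 : (⟨ψ, hψ⟩ : IrrCharacter (Nm P)) ∈ B :=
      (memB _).2 ((nu_eq_of_inner hf.fN hn' hidx' hψ η₀.2 h2).trans ((memB₀ _).1 hη₀))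
    obtain ⟨η₁, -, h4⟩ := res _ h3
    have h5 : η₁ = η₀ := by
      by_contra h6
      apply h2
      have h7 : ψ ∘ hf.fN = η₁ := h4
      rw [h7]
      exact classInner_irr_ne η₁.2 η₀.2 fun h8 => h6 (Subtype.ext h8)
    subst h5
    obtain ⟨χ, h6, h7, -⟩ := H1.col _ ((memB _).1 h3)
    obtain ⟨k1, k2⟩ := rowf χ ((memA χ).2 h6) _ h3 h7
    exact (key χ ((memA χ).2 h6) _ h3 k1 k2 η₁ hη₀ h4).2
  have col : ∀ η ∈ B₀, ∃ θ ∈ A₀, m θ η = 1 ∧ ∀ θ' ∈ A₀, θ' ≠ θ → m θ' η = 0 := fun η hη =>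
    unit_of_sq A₀ (fun θ => m θ η) (by rw [ortho η hη η hη, if_pos rfl])
  constructor
  · intro θ hθ
    obtain ⟨χ, hχ, h2⟩ := exists_over_inj f hinj θ.2
    have h3 : (⟨χ, hχ⟩ : IrrCharacter G) ∈ A := (memA _).2 ((nu_eq_of_inner f hn hidx hχ θ.2 h2).trans hθ)
    obtain ⟨ψ, h4, h5, -⟩ := H1.row _ ((memA _).1 h3)
    obtain ⟨k1, k2⟩ := rowf _ h3 ψ ((memB ψ).2 h4) h5
    obtain ⟨η₀, hη₀, h6⟩ := res ψ ((memB ψ).2 h4)
    have h7 := (key _ h3 ψ ((memB ψ).2 h4) k1 k2 η₀ hη₀ h6).1 θ ((memA₀ θ).2 hθ)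
    have h8 : m θ η₀ ≠ 0 := by
      intro h9
      apply h2
      rw [h9, Nat.cast_zero] at h7
      exact h7
    obtain ⟨θ₁, -, h9, h10⟩ := col η₀ hη₀
    have h11 : θ = θ₁ := by
      by_contra h12
      exact h8 (h10 θ ((memA₀ θ).2 hθ) h12)
    subst h11
    refine ⟨η₀, (memB₀ _).1 hη₀, by rw [hm, h9, Nat.cast_one], fun η h12 h13 => ?_⟩
    have h14 := ortho η₀ hη₀ η ((memB₀ η).2 h12)
    rw [if_neg (Ne.symm h13), Finset.sum_eq_zero_iff] at h14
    have h15 := h14 θ ((memA₀ θ).2 hθ)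
    rw [h9, one_mul] at h15
    rw [hm, h15, Nat.cast_zero]
  · intro η hη
    obtain ⟨θ, h2, h3, h4⟩ := col η ((memB₀ η).2 hη)
    refine ⟨θ, (memA₀ θ).1 h2, by rw [hm, h3, Nat.cast_one], fun θ' h5 h6 => ?_⟩
    rw [hm, h4 θ' ((memA₀ θ').2 h5) h6, Nat.cast_zero]

end Cfsg.Agent.TID.Rk1
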