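import Mathlib
import Cfsg.Agent.TID.Rk1.Down
import Cfsg.Agent.H664.R1.RankMore
import Cfsg.Agent.S0145

/-!
# S4622, the row `SU3`: general tools (helper17)

* `kern` : column orthogonality for the characters killed by the average over a normal subgroup;
* `Hz.dvd_deg` : the degree of a character without fixed points of the root group is divisible by `q (q - 1)`;
* `deg_le_norm`, `two_inner_le` : two inequalities for inner products.
-/

set_option autoImplicit false
set_option linter.unusedSectionVars false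
set_option maxHeartbeats 400000

namespace Cfsg.Agent.TID.Rk1

open Cfsg Cfsg.Agent.Characters.Core Cfsg.Agent.Characters Cfsg.Agent.TID.Syl
open Cfsg.Agent.H664.R1
open scoped ComplexConjugate

universe u v

section gen

variable {X : Type u} [Group X] [Fintype X]

open Classical in
/-- The right hand side of the column orthogonality. -/
noncomputable def cc (g h : X) : ℂ :=
  if IsConj g h then (Nat.card (Subgroup.centralizer ({h} : Set X)) : ℂ) else 0

theorem cc_of {g h : X} (H : IsConj g h) : cc g h = (Nat.card (Subgroup.centralizer ({h} : Set X)) : ℂ) := if_pos H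

theorem cc_of_not {g h : X} (H : ¬ IsConj g h) : cc g h = 0 := if_neg H

theorem kern [Fintype (IrrCharacter X)] (Q : Subgroup X) [Q.Normal] [Fintype Q] {S : Finset (IrrCharacter X)}
    (hS : ∀ ψ : IrrCharacter X, ψ ∈ S ↔ fx Q (ψ : X → ℂ) = 0) (g h : X) :
    ∑ ψ ∈ S, (ψ : X → ℂ) g * conj ((ψ : X → ℂ) h) = cc g h - (Nat.card Q : ℂ)⁻¹ * ∑ y : Q, cc (g * y) h := by
  classical
  have h0 : S = Finset.univ.filter (fun ψ : IrrCharacter X => fx Q (ψ : X → ℂ) = 0) := by
    ext ψ
    rw [hS, Finset.mem_filter, and_iff_right (Finset.mem_univ _)]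
  have h1 : ∀ a : X, cc a h = ∑ ψ : IrrCharacter X, (ψ : X → ℂ) a * conj ((ψ : X → ℂ) h) := fun a => by
    rw [S0145.sum_irr_mul_conj a h, cc]
  simp only [h1]
  rw [h0, Finset.sum_comm, Finset.mul_sum, ← Finset.sum_sub_distrib, Finset.sum_filter]
  refine Finset.sum_congr rfl fun ψ _ => ?_
  rw [← Finset.sum_mul, ← mul_assoc, ← fx_apply]
  split_ifs with h2
  · rw [h2, Pi.zero_apply, zero_mul, sub_zero]
  · rw [(fx_irr Q ψ.2).resolve_right h2, sub_self]

/-- The part of a class function killed by the average. -/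
theorem sub_fx [Fintype (IrrCharacter X)] (Q : Subgroup X) [Q.Normal] {S : Finset (IrrCharacter X)}
    (hS : ∀ ψ : IrrCharacter X, ψ ∈ S ↔ fx Q (ψ : X → ℂ) = 0) {α : X → ℂ} (hα : IsClassFunction X α) :
    α - fx Q α = ∑ ψ ∈ S, classInner α (ψ : X → ℂ) • (ψ : X → ℂ) := by
  classical
  have h0 : S = Finset.univ.filter (fun ψ : IrrCharacter X => fx Q (ψ : X → ℂ) = 0) := by
    ext ψ
    rw [hS, Finset.mem_filter, and_iff_right (Finset.mem_univ _)]
  conv_lhs => rw [classFunction_eq_sum hα]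
  rw [h0, fx_sum, ← Finset.sum_sub_distrib, Finset.sum_filter]
  refine Finset.sum_congr rfl fun ψ _ => ?_
  rw [fx_smul]
  split_ifs with h2
  · rw [h2, smul_zero, sub_zero]
  · rw [(fx_irr Q ψ.2).resolve_right h2, sub_self]

theorem deg_le_norm (hc : IsMulCommutative X) {α : X → ℂ} (hα : IsCharacter X α) {a b : ℕ} (ha : α 1 = a)
    (hb : classInner α α = b) : a ≤ b := by
  have := finite_irr (G := X)
  have := Fintype.ofFinite (IrrCharacter X)
  obtain ⟨m, rfl⟩ := exists_nat_comb hα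
  rw [norm_eq_sum, Nat.cast_inj] at hb
  have h1 : ∀ ψ : IrrCharacter X, (ψ : X → ℂ) 1 = 1 := by
    intro ψ
    obtain ⟨ω, hω⟩ := OddOrderCharacters.PrimeTI.exists_hom_of_comm hc ψ.2
    rw [hω]
    simp
  rw [Finset.sum_apply] at ha
  simp only [Pi.smul_apply, h1, nsmul_eq_mul, mul_one] at ha
  have h2 : ∑ ψ : IrrCharacter X, m ψ = a := by exact_mod_cast ha
  rw [← h2, ← hb]
  exact Finset.sum_le_sum fun ψ _ => Nat.le_self_pow (by norm_num) _

theorem two_inner_le {α β : X → ℂ} (hα : IsCharacter X α) (hβ : IsCharacter X β) {a b c : ℕ}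
    (ha : classInner α α = a) (hb : classInner β β = b) (hc : classInner α β = c) : 2 * c ≤ a + b := by
  have := finite_irr (G := X)
  have := Fintype.ofFinite (IrrCharacter X)
  obtain ⟨m, rfl⟩ := exists_nat_comb hα
  obtain ⟨n, rfl⟩ := exists_nat_comb hβ
  rw [norm_eq_sum, Nat.cast_inj] at ha hb
  have h := classInner_sum_smul_sum_smul (G := X) (fun ψ => (m ψ : ℂ)) (fun ψ => (n ψ : ℂ))
  simp only [Nat.cast_smul_eq_nsmul, Complex.conj_natCast] at h
  rw [h] at hc
  have h2 : ∑ ψ : IrrCharacter X, m ψ * n ψ = c := by exact_mod_cast hc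
  rw [← h2, ← ha, ← hb, Finset.mul_sum, ← Finset.sum_add_distrib]
  refine Finset.sum_le_sum fun ψ _ => ?_
  zify
  nlinarith [sq_nonneg ((m ψ : ℤ) - n ψ)]

/-- A character of degree zero. -/
theorem eq_zero_of_deg {α : X → ℂ} (hα : IsCharacter X α) (h : α 1 = 0) : α = 0 := by
  obtain ⟨n, ρ, rfl⟩ := hα
  have h1 : ρ.character 1 = n := by simp
  rw [h] at h1
  have h2 : n = 0 := by exact_mod_cast h1.symm
  subst h2
  funext g
  unfold Representation.character
  rw [Subsingleton.elim (ρ g) 0, map_zero]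
  rfl

/-- A constituent whose degree is not smaller. -/
theorem eq_of_deg_le {α η : X → ℂ} (hα : IsCharacter X α) (hη : IsIrrCharacter X η) (h : classInner α η ≠ 0)
    {a b : ℕ} (ha : α 1 = a) (hb : η 1 = b) (hab : a ≤ b) : α = η := by
  have h1 := isCharacter_sub_irr hα hη h
  obtain ⟨c, hc⟩ := isCharacter_apply_one h1
  have h2 : (c : ℂ) + b = a := by rw [← hc, Pi.sub_apply, ha, hb]; ring
  have h3 : c + b = a := by exact_mod_cast h2
  have h4 : c = 0 := by omega
  rw [h4, Nat.cast_zero] at hc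
  exact sub_eq_zero.1 (eq_zero_of_deg h1 hc)

theorem sum_ite_mem {M : Type v} [Semiring M] {Z T : Subgroup X} [Fintype T] [DecidablePred (· ∈ Z)] (h : Z ≤ T)
    (x : M) : ∑ t : T, (if (t : X) ∈ Z then x else 0) = Nat.card Z * x := by
  classical
  rw [← Finset.sum_filter, Finset.sum_const, nsmul_eq_mul]
  congr 2
  rw [← Nat.card_congr (Subgroup.subgroupOfEquivOfLe h).toEquiv, Nat.card_eq_fintype_card, Fintype.card_subtype]
  congr 1
  ext t
  simp [Subgroup.mem_subgroupOf]

end gen

theorem card_comap {X : Type u} [Group X] {G : Type v} [Group G] {j : X →* G} (hj : Function.Injective j)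
    {U : Subgroup G} (hU : U ≤ j.range) : Nat.card (U.comap j) = Nat.card U := by
  conv_rhs => rw [← Subgroup.map_comap_eq_self hU]
  exact (Subgroup.card_map_of_injective hj).symm

/-- A group of Heisenberg type, with the centre fused in `R`. -/
structure Hz {G : Type u} [Group G] (R U Y : Subgroup G) (q : ℕ) : Prop where
  hq : 3 ≤ q
  cU : Nat.card U = q ^ 3
  cY : Nat.card Y = q
  YU : Y ≤ U
  UR : U ≤ R
  cen : ∀ x ∈ Y, ∀ u ∈ U, u * x = x * u
  com : ∀ u ∈ U, u ∉ Y → ∀ x ∈ Y, ∃ v ∈ U, v * u * v⁻¹ = u * x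
  f1 : ∀ x ∈ Y, x ≠ 1 → ∀ y ∈ Y, y ≠ 1 → ∃ b ∈ R, b * x * b⁻¹ = y

theorem Hz.dvd_deg {G : Type u} [Group G] {R U Y : Subgroup G} {q : ℕ} (H : Hz R U Y q) {X : Type v} [Group X]
    [Finite X] {j : X →* G} (hj : Function.Injective j) (hR : R ≤ j.range) {α : X → ℂ} (hα : IsCharacter X α)
    (h0 : fx (Y.comap j) α 1 = 0) : ∃ c : ℕ, α 1 = ((c * (q * (q - 1)) : ℕ) : ℂ) := by
  classical
  have hq := H.hq
  have := Fintype.ofFinite X
  have := Fintype.ofFinite (U.comap j)
  have := Fintype.ofFinite (Y.comap j)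
  have := Fintype.ofFinite ((Y.comap j).subgroupOf (U.comap j))
  have hle : Y.comap j ≤ U.comap j := Subgroup.comap_mono H.YU
  have cY : Nat.card (Y.comap j) = q := (card_comap hj (H.YU.trans (H.UR.trans hR))).trans H.cY
  have cU : Nat.card (U.comap j) = q ^ 3 := (card_comap hj (H.UR.trans hR)).trans H.cU
  have hcZ : Nat.card ((Y.comap j).subgroupOf (U.comap j)) = q :=
    (Nat.card_congr (Subgroup.subgroupOfEquivOfLe hle).toEquiv).trans cY
  have hcU : IsCharacter (U.comap j) (fun u : U.comap j => α u) := isCharacter_comp (U.comap j).subtype hα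
  obtain ⟨n, m, hn, hm, hd, -⟩ := Heis.dvd_sub (Z := (Y.comap j).subgroupOf (U.comap j))
    (fun z hz g => Subtype.ext (hj (by
      rw [Subgroup.coe_mul, Subgroup.coe_mul, map_mul, map_mul]
      exact H.cen _ hz _ g.2)))
    (fun u hu z hz => by
      obtain ⟨v, hv, hv'⟩ := H.com _ u.2 (fun h => hu h) (j z) hz
      obtain ⟨v, rfl⟩ := hR (H.UR hv)
      refine ⟨⟨v, hv⟩, Subtype.ext (hj ?_)⟩
      simpa using hv')
    (q := q) (by rw [cU, hcZ]; ring) hcU
  have hn1 : α 1 = n := hn
  have hq0 : (q : ℂ) ≠ 0 := by exact_mod_cast (by omega : q ≠ 0)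
  have hs : ∑ y : Y.comap j, α y = 0 := by
    rw [fx_apply] at h0
    simp only [one_mul] at h0
    exact (mul_eq_zero.1 h0).resolve_left (inv_ne_zero card_ne_zero_complex)
  have hm0 : m = 0 := by
    have h1 : ∑ z : (Y.comap j).subgroupOf (U.comap j), α ((z : U.comap j) : X) = ∑ y : Y.comap j, α y :=
      Fintype.sum_equiv (Subgroup.subgroupOfEquivOfLe hle).toEquiv _ _ fun z => rfl
    have h2 : (q : ℂ) * m = 0 := by rw [← hs, ← h1, ← hcZ]; exact hm.symm
    exact_mod_cast (mul_eq_zero.1 h2).resolve_left hq0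
  subst hm0
  obtain ⟨x, hx1⟩ : ∃ x : Y.comap j, x ≠ 1 := by
    have : Nontrivial (Y.comap j) := Finite.one_lt_card_iff_nontrivial.1 (by omega)
    exact exists_ne 1
  have hsum : ∑ y : Y.comap j, α y = n + (q - 1) * α x := by
    have h1 : ∀ z : Y.comap j, α z = (if z = 1 then (n : ℂ) - α x else 0) + α x := by
      intro z
      split_ifs with hz
      · rw [hz, Subgroup.coe_one, hn1]; ring
      · rw [zero_add]
        obtain ⟨b, hb, hb'⟩ := H.f1 _ x.2 (fun h => hx1 (Subtype.ext (hj (by rw [h]; simp)))) _ z.2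
          (fun h => hz (Subtype.ext (hj (by rw [h]; simp))))
        obtain ⟨b, rfl⟩ := hR hb
        have h2 : b * x * b⁻¹ = z := hj (by simpa using hb')
        rw [← h2]
        exact isCharacter_isClassFunction hα _ _
    rw [Finset.sum_congr rfl fun z _ => h1 z, Finset.sum_add_distrib, Finset.sum_ite_eq' Finset.univ,
      if_pos (Finset.mem_univ _), Finset.sum_const, Finset.card_univ, nsmul_eq_mul, ← Nat.card_eq_fintype_card, cY]
    ring
  have hq1 : (q : ℂ) - 1 ≠ 0 := by
    intro h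
    have : (q : ℂ) = 1 := by linear_combination h
    have : q = 1 := by exact_mod_cast this
    omega
  rw [hs] at hsum
  obtain ⟨a, ha⟩ := ((Characters.GaloisBasic.isIntegral_apply hα (x : X)).exists_int_iff_exists_rat).1
    ⟨-(n : ℚ) / (q - 1), by
      push_cast
      rw [eq_div_iff hq1]
      linear_combination -hsum⟩
  rw [ha] at hsum
  have h3 : (0 : ℤ) = n + (q - 1) * a := by exact_mod_cast hsum
  have h4 : ((q : ℤ) - 1) ∣ n := ⟨-a, by linear_combination -h3⟩
  rw [Nat.cast_zero, sub_zero] at hd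
  have h5 : IsCoprime (q : ℤ) (q - 1) := ⟨1, -1, by ring⟩
  have h6 : ((q * (q - 1) : ℕ) : ℤ) ∣ n := by
    rw [Nat.cast_mul, Nat.cast_sub (by omega), Nat.cast_one]
    exact h5.mul_dvd hd h4
  obtain ⟨c, hc⟩ := Int.natCast_dvd_natCast.1 h6
  exact ⟨c, by rw [hn1, hc, mul_comm]⟩

end Cfsg.Agent.TID.Rk1
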