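import Mathlib
import Cfsg.Agent.TID.Rk1.Gen

/-!
# S4622, the row `SU3`: the characters of the Borel subgroup (helper17)

`HS D Y Z A q` : a split rank one group of unitary type; `HH D Y` : the irreducible characters of `B` which do not have
the root group `Y` in the kernel.

* `HS.card_HH` : their number is `|A|`; `HS.deg_HH` : their degree is `q (q - 1)`;
* `HS.norm_T` : the restriction to the torus has norm `q (q - 1)`.
-/

set_option autoImplicit false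
set_option linter.unusedSectionVars false
set_option maxHeartbeats 400000

namespace Cfsg.Agent.TID.Rk1

open Cfsg Cfsg.Agent.Characters.Core Cfsg.Agent.Characters Cfsg.Agent.TID.Syl
open Cfsg.Agent.H664.R1
open scoped ComplexConjugate

universe u v

/-- The structure of the unitary group. -/
structure HS {G : Type u} [Group G] (D : Split G) (Y Z A : Subgroup G) (q : ℕ) : Prop where
  fus : Fus D Y q
  ZA : Z ≤ A
  AT : A ≤ D.T
  Zc : ∀ z ∈ Z, ∀ g, z * g = g * z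
  Ay : ∀ a ∈ A, ∀ y ∈ Y, a * y = y * a
  fixY : ∀ t ∈ D.T, t ∉ A → ∀ y ∈ Y, t * y = y * t → y = 1
  fixU : ∀ t ∈ D.T, t ∉ Z → ∀ u ∈ D.U, u * t * u⁻¹ * t⁻¹ ∈ Y → u ∈ Y
  ab : ∀ u ∈ D.U, ∀ v ∈ D.U, u * v * u⁻¹ * v⁻¹ ∈ Y
  cA : Nat.card A = Nat.card Z * (q + 1)
  cT : Nat.card D.T = Nat.card A * (q - 1)

variable {G : Type u} [Group G] [Finite G]

/-- The root group in the Borel subgroup. -/
abbrev YB (D : Split G) (Y : Subgroup G) : Subgroup D.B := Y.comap D.B.subtype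

/-- The torus in the Borel subgroup. -/
abbrev iT (D : Split G) : D.T →* D.B := Subgroup.inclusion D.TB

open Classical in
/-- The characters of `B` which are not trivial on the root group. -/
noncomputable def HH (D : Split G) (Y : Subgroup G) [Fintype (IrrCharacter D.B)] : Finset (IrrCharacter D.B) :=
  Finset.univ.filter (fun ψ => fx (YB D Y) (ψ : D.B → ℂ) = 0)

open Classical in
theorem mem_HH {D : Split G} {Y : Subgroup G} [Fintype (IrrCharacter D.B)] {ψ : IrrCharacter D.B} :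
    ψ ∈ HH D Y ↔ fx (YB D Y) (ψ : D.B → ℂ) = 0 := by
  unfold HH
  rw [Finset.mem_filter, and_iff_right (Finset.mem_univ _)]

namespace HS

variable {D : Split G} {Y Z A : Subgroup G} {q : ℕ} (H : HS D Y Z A q)

include H

theorem hz : Hz D.B D.U Y q :=
  ⟨H.fus.hq, H.fus.cU, H.fus.cX, H.fus.XU, D.UB, H.fus.cen, H.fus.com, H.fus.f1⟩

theorem YB_le : Y ≤ D.B := H.fus.XU.trans D.UB

theorem normal : (YB D Y).Normal := ⟨fun y hy b => H.fus.nX b b.2 y hy⟩

theorem card_YB : Nat.card (YB D Y) = q :=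
  (card_comap D.B.subtype_injective (by rw [Subgroup.range_subtype]; exact H.YB_le)).trans H.fus.cX

theorem q_ne : (q : ℂ) ≠ 0 := by
  have := H.fus.hq
  exact_mod_cast (by omega : q ≠ 0)

theorem q_sub_ne : (q : ℂ) - 1 ≠ 0 := by
  have := H.fus.hq
  intro h
  have h1 : (q : ℂ) = 1 := by linear_combination h
  have h2 : q = 1 := by exact_mod_cast h1
  omega

theorem conj_A {a a' y c : G} (ha : a ∈ A) (ha' : a' ∈ A) (hy : y ∈ Y) (hc : c ∈ D.B)
    (h : c * (a' * y) * c⁻¹ = a) : a' = a ∧ y = 1 := by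
  obtain ⟨u, hu, s, hs, hus⟩ := D.dec c⁻¹ (D.B.inv_mem hc)
  have h1 : a' * y = u * a * u⁻¹ := by
    calc a' * y = c⁻¹ * a * (c⁻¹)⁻¹ := by rw [← h]; group
      _ = u * (s * a) * s⁻¹ * u⁻¹ := by rw [hus]; group
      _ = u * a * u⁻¹ := by rw [D.comm s hs a (H.AT ha)]; group
  have h2 : u * a * u⁻¹ * a⁻¹ ∈ D.U := by
    have h3 := D.U.mul_mem hu (D.nU a (D.TB (H.AT ha)) u⁻¹ (D.U.inv_mem hu))
    rwa [show u * (a * u⁻¹ * a⁻¹) = u * a * u⁻¹ * a⁻¹ by group] at h3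
  have h3 : u * a * u⁻¹ * a⁻¹ = y * (a' * a⁻¹) := by rw [← h1, H.Ay a' ha' y hy, mul_assoc]
  have h4 : a' * a⁻¹ ∈ D.U := by
    have h5 := D.U.mul_mem (D.U.inv_mem (H.fus.XU hy)) h2
    rwa [h3, inv_mul_cancel_left] at h5
  have h5 := D.disj _ h4 (D.T.mul_mem (H.AT ha') (D.T.inv_mem (H.AT ha)))
  refine ⟨mul_inv_eq_one.1 h5, ?_⟩
  rw [h5, mul_one] at h3
  by_cases hz : a ∈ Z
  · rw [← h3, ← H.Zc a hz u]
    group
  · have h6 := H.fixU a (H.AT ha) hz u hu (by rw [h3]; exact hy)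
    rw [← h3, ← H.Ay a ha u h6]
    group

theorem conj_out {t y : G} (ht : t ∈ D.T) (htA : t ∉ A) (hy : y ∈ Y) : ∃ v ∈ Y, v⁻¹ * (t * y) * v = t := by
  have hm : ∀ v : Y, t⁻¹ * v * t * (v : G)⁻¹ ∈ Y := fun v => by
    have h1 := H.fus.nX t⁻¹ (D.B.inv_mem (D.TB ht)) v v.2
    rw [inv_inv] at h1
    exact Y.mul_mem h1 (Y.inv_mem v.2)
  have hinj : Function.Injective fun v : Y => (⟨_, hm v⟩ : Y) := by
    intro v v' h
    have h1 : t⁻¹ * v * t * (v : G)⁻¹ = t⁻¹ * v' * t * (v' : G)⁻¹ := congrArg Subtype.val h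
    have h2 : (v' : G)⁻¹ * v ∈ Y := Y.mul_mem (Y.inv_mem v'.2) v.2
    have h3 := H.fixY t ht htA _ h2 (by
      calc t * ((v' : G)⁻¹ * v) = (v' : G)⁻¹ * t * (t⁻¹ * v' * t * (v' : G)⁻¹) * v := by group
        _ = (v' : G)⁻¹ * t * (t⁻¹ * v * t * (v : G)⁻¹) * v := by rw [h1]
        _ = _ := by group)
    exact Subtype.ext (inv_mul_eq_one.1 h3).symm
  obtain ⟨v, hv⟩ := Finite.surjective_of_injective hinj ⟨y, hy⟩
  have h1 : t⁻¹ * v * t * (v : G)⁻¹ = y := congrArg Subtype.val hv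
  refine ⟨v, v.2, ?_⟩
  rw [← h1]
  group

theorem card_cent {a : D.B} (ha : (a : G) ∈ A) (hz : (a : G) ∉ Z) :
    Nat.card (Subgroup.centralizer ({a} : Set D.B)) ≤ q * Nat.card D.T := by
  rw [← H.fus.cX, ← Nat.card_prod]
  have hm : ∀ x : Y × D.T, (⟨x.1 * x.2, D.B.mul_mem (H.YB_le x.1.2) (D.TB x.2.2)⟩ : D.B) ∈
      Subgroup.centralizer ({a} : Set D.B) := by
    intro x
    rw [Subgroup.mem_centralizer_singleton_iff]
    apply Subtype.ext
    show (x.1 : G) * x.2 * a = a * (x.1 * x.2)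
    rw [mul_assoc, D.comm _ x.2.2 _ (H.AT ha), ← mul_assoc, ← H.Ay _ ha _ x.1.2, mul_assoc]
  refine Nat.card_le_card_of_surjective (fun x : Y × D.T => (⟨_, hm x⟩ : Subgroup.centralizer ({a} : Set D.B))) ?_
  rintro ⟨c, hc⟩
  rw [Subgroup.mem_centralizer_singleton_iff] at hc
  have h1 : (c : G) * a = a * c := congrArg Subtype.val hc
  obtain ⟨u, hu, s, hs, hus⟩ := D.dec c c.2
  have h2 : u * a * u⁻¹ * (a : G)⁻¹ = 1 := by
    rw [hus, mul_assoc, D.comm s hs _ (H.AT ha), ← mul_assoc, ← mul_assoc] at h1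
    rw [mul_right_cancel h1]
    group
  have h3 := H.fixU _ (H.AT ha) hz u hu (by rw [h2]; exact Y.one_mem)
  exact ⟨(⟨u, h3⟩, ⟨s, hs⟩), Subtype.ext (Subtype.ext hus.symm)⟩

variable [Fintype (IrrCharacter D.B)]

open Classical in
theorem K_A {a a' : D.B} (ha : (a : G) ∈ A) (ha' : (a' : G) ∈ A) :
    ∑ ψ ∈ HH D Y, (ψ : D.B → ℂ) a' * conj ((ψ : D.B → ℂ) a) =
      if a' = a then (1 - (q : ℂ)⁻¹) * Nat.card (Subgroup.centralizer ({a} : Set D.B)) else 0 := by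
  have := Fintype.ofFinite D.B
  have := Fintype.ofFinite (YB D Y)
  have := H.normal
  have key : ∀ y : YB D Y, IsConj (a' * y) a → a' = a ∧ y = 1 := by
    intro y h
    obtain ⟨c, hc⟩ := isConj_iff.1 h
    obtain ⟨h1, h2⟩ := H.conj_A ha ha' (y := ((y : D.B) : G)) y.2 c.2 (congrArg Subtype.val hc)
    exact ⟨Subtype.ext h1, Subtype.ext (Subtype.ext h2)⟩
  rw [kern (YB D Y) (fun _ => mem_HH), H.card_YB]
  split_ifs with h
  · subst h
    rw [Finset.sum_eq_single (1 : YB D Y) (fun y _ hy => cc_of_not fun h => hy (key y h).2)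
      (fun h => (h (Finset.mem_univ _)).elim), Subgroup.coe_one, mul_one, cc_of (IsConj.refl _)]
    ring
  · rw [Finset.sum_eq_zero fun y _ => cc_of_not fun h1 => h (key y h1).1,
      cc_of_not fun h1 => h (key 1 (by rwa [Subgroup.coe_one, mul_one])).1, mul_zero, sub_zero]

theorem K_out {t : D.B} (ht : (t : G) ∈ D.T) (htA : (t : G) ∉ A) :
    ∑ ψ ∈ HH D Y, (ψ : D.B → ℂ) t * conj ((ψ : D.B → ℂ) t) = 0 := by
  have := Fintype.ofFinite D.B
  have := Fintype.ofFinite (YB D Y)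
  have := H.normal
  have key : ∀ y : YB D Y, IsConj (t * y) t := by
    intro y
    obtain ⟨v, hv, h⟩ := H.conj_out ht htA (y := ((y : D.B) : G)) y.2
    refine isConj_iff.2 ⟨(⟨v, H.YB_le hv⟩ : D.B)⁻¹, Subtype.ext ?_⟩
    rw [inv_inv]
    exact h
  rw [kern (YB D Y) (fun _ => mem_HH), Finset.sum_congr rfl fun y _ => cc_of (key y), cc_of (IsConj.refl _),
    Finset.sum_const,
    Finset.card_univ, ← Nat.card_eq_fintype_card, nsmul_eq_mul, ← mul_assoc, inv_mul_cancel₀ card_ne_zero_complex,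
    one_mul, sub_self]

theorem K_ne (a : D.B) : (1 - (q : ℂ)⁻¹) * Nat.card (Subgroup.centralizer ({a} : Set D.B)) ≠ 0 := by
  refine mul_ne_zero (fun h => H.q_sub_ne ?_) card_ne_zero_complex
  have h1 := H.q_ne
  field_simp at h
  linear_combination h

theorem card_le : Nat.card A ≤ (HH D Y).card := by
  classical
  have := Fintype.ofFinite A
  let j : A → D.B := fun a => ⟨a, D.TB (H.AT a.2)⟩
  let v : A → (HH D Y → ℂ) := fun a ψ => (ψ.1 : D.B → ℂ) (j a)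
  have hv : LinearIndependent ℂ v := by
    rw [Fintype.linearIndependent_iff]
    intro g hg a
    have h1 : ∑ ψ : HH D Y, (∑ i, g i • v i) ψ * conj (v a ψ) = 0 := by
      rw [hg]
      simp
    simp only [Finset.sum_apply, Pi.smul_apply, smul_eq_mul, Finset.sum_mul, mul_assoc] at h1
    rw [Finset.sum_comm] at h1
    have h2 : ∀ i : A, ∑ ψ : HH D Y, g i * (v i ψ * conj (v a ψ)) =
        if i = a then g a * ((1 - (q : ℂ)⁻¹) * Nat.card (Subgroup.centralizer ({j a} : Set D.B))) else 0 := by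
      intro i
      rw [← Finset.mul_sum, Finset.sum_coe_sort (HH D Y) (fun ψ => (ψ : D.B → ℂ) (j i) * conj ((ψ : D.B → ℂ) (j a))),
        H.K_A a.2 i.2]
      by_cases h3 : i = a
      · rw [if_pos h3, h3, if_pos rfl]
      · have h4 : j i ≠ j a := fun h4 => h3 (Subtype.ext (congrArg (fun b : D.B => (b : G)) h4))
        rw [if_neg h3, if_neg h4, mul_zero]
    rw [Finset.sum_congr rfl fun i _ => h2 i, Finset.sum_ite_eq', if_pos (Finset.mem_univ _)] at h1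
    exact (mul_eq_zero.1 h1).resolve_right (H.K_ne _)
  have h1 := hv.fintype_card_le_finrank
  rwa [Module.finrank_fintype_fun_eq_card, Fintype.card_coe, ← Nat.card_eq_fintype_card] at h1

theorem card_B : Nat.card D.B = q ^ 3 * (Nat.card A * (q - 1)) := by rw [D.card_B, H.fus.cU, H.cT]

theorem deg_card : (∀ ψ ∈ HH D Y, (ψ : D.B → ℂ) 1 = ((q * (q - 1) : ℕ) : ℂ)) ∧ (HH D Y).card = Nat.card A := by
  have hq := H.fus.hq
  have h1 : ∀ ψ : IrrCharacter D.B, ∃ c : ℕ, ψ ∈ HH D Y → (ψ : D.B → ℂ) 1 = ((c * (q * (q - 1)) : ℕ) : ℂ) := by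
    intro ψ
    by_cases h : ψ ∈ HH D Y
    · obtain ⟨c, hc⟩ := H.hz.dvd_deg D.B.subtype_injective (by rw [Subgroup.range_subtype]) (isIrr_isCharacter ψ.2)
        (by rw [mem_HH.1 h]; rfl)
      exact ⟨c, fun _ => hc⟩
    · exact ⟨0, fun h2 => (h h2).elim⟩
  choose c hc using h1
  have hc0 : ∀ ψ ∈ HH D Y, 1 ≤ c ψ := by
    intro ψ hψ
    by_contra h
    apply isIrr_apply_one_ne_zero ψ.2
    rw [hc ψ hψ, show c ψ = 0 by omega, zero_mul, Nat.cast_zero]
  have h2 := H.K_A (a := 1) (a' := 1) A.one_mem A.one_mem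
  have h3 : Subgroup.centralizer ({1} : Set D.B) = ⊤ := by
    rw [eq_top_iff]
    intro x _
    rw [Subgroup.mem_centralizer_singleton_iff, one_mul, mul_one]
  rw [if_pos rfl, h3, Subgroup.card_top, H.card_B,
    Finset.sum_congr rfl fun ψ hψ => by rw [hc ψ hψ, Complex.conj_natCast]] at h2
  have h4 : ∑ ψ ∈ HH D Y, c ψ * c ψ = Nat.card A := by
    have h5 : ((∑ ψ ∈ HH D Y, c ψ * c ψ : ℕ) : ℂ) * (q * (q - 1)) ^ 2 = Nat.card A * (q * (q - 1)) ^ 2 := by
      push_cast [Nat.cast_sub (show 1 ≤ q by omega)] at h2 ⊢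
      rw [Finset.sum_mul, Finset.sum_congr rfl fun ψ _ => (show (c ψ : ℂ) * c ψ * (q * (q - 1)) ^ 2 =
        c ψ * (q * (q - 1)) * (c ψ * (q * (q - 1))) by ring), h2]
      have h6 := H.q_ne
      field_simp
    exact_mod_cast mul_right_cancel₀ (pow_ne_zero 2 (mul_ne_zero H.q_ne H.q_sub_ne)) h5
  have h5 := H.card_le
  have h6 : ∀ ψ ∈ HH D Y, 1 ≤ c ψ * c ψ := fun ψ hψ => Nat.mul_pos (hc0 ψ hψ) (hc0 ψ hψ)
  have h7 : ∑ ψ ∈ HH D Y, 1 = ∑ ψ ∈ HH D Y, c ψ * c ψ :=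
    le_antisymm (Finset.sum_le_sum h6) (by rw [h4, ← Finset.card_eq_sum_ones]; exact h5)
  refine ⟨fun ψ hψ => ?_, by rw [Finset.card_eq_sum_ones, h7, h4]⟩
  have h8 := (Finset.sum_eq_sum_iff_of_le h6).1 h7 ψ hψ
  rw [hc ψ hψ, Nat.eq_one_of_mul_eq_one_left h8.symm, one_mul]

theorem deg_HH {ψ : IrrCharacter D.B} (h : ψ ∈ HH D Y) : (ψ : D.B → ℂ) 1 = ((q * (q - 1) : ℕ) : ℂ) :=
  H.deg_card.1 ψ h

theorem card_HH : (HH D Y).card = Nat.card A := H.deg_card.2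

theorem norm_T [Fintype D.T] {ψ : IrrCharacter D.B} (h : ψ ∈ HH D Y) :
    classInner ((ψ : D.B → ℂ) ∘ iT D) ((ψ : D.B → ℂ) ∘ iT D) = ((q * (q - 1) : ℕ) : ℂ) := by
  classical
  have hq := H.fus.hq
  have hch : ∀ ψ : IrrCharacter D.B, IsCharacter D.T ((ψ : D.B → ℂ) ∘ iT D) := fun ψ =>
    isCharacter_comp _ (isIrr_isCharacter ψ.2)
  have h1 : ∀ ψ : IrrCharacter D.B, ∃ n : ℕ, classInner ((ψ : D.B → ℂ) ∘ iT D) ((ψ : D.B → ℂ) ∘ iT D) = n :=
    fun ψ => classInner_isNat (hch ψ) (hch ψ)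
  choose N hN using h1
  have h2 : ∀ ψ ∈ HH D Y, q * (q - 1) ≤ N ψ := fun ψ hψ =>
    deg_le_norm ⟨⟨fun a b => Subtype.ext (D.comm _ a.2 _ b.2)⟩⟩ (hch ψ)
      (by rw [Function.comp_apply, map_one, H.deg_HH hψ]) (hN ψ)
  let c : D.T → ℕ := fun t => if (t : G) ∈ A then Nat.card (Subgroup.centralizer ({iT D t} : Set D.B)) else 0
  have h3 : ∀ t : D.T, ∑ ψ ∈ HH D Y, (ψ : D.B → ℂ) (iT D t) * conj ((ψ : D.B → ℂ) (iT D t)) =
      (1 - (q : ℂ)⁻¹) * c t := by
    intro t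
    by_cases h4 : (t : G) ∈ A
    · rw [H.K_A h4 h4, if_pos rfl]
      simp only [c, if_pos h4]
    · rw [H.K_out t.2 h4]
      simp only [c, if_neg h4, Nat.cast_zero, mul_zero]
  have h4 : Nat.card D.T * q * ∑ ψ ∈ HH D Y, N ψ = (q - 1) * ∑ t, c t := by
    have h5 : ((∑ ψ ∈ HH D Y, N ψ : ℕ) : ℂ) = (Nat.card D.T : ℂ)⁻¹ * ((1 - (q : ℂ)⁻¹) * ((∑ t, c t : ℕ) : ℂ)) := by
      push_cast
      rw [Finset.mul_sum, ← Finset.sum_congr rfl fun t _ => h3 t, Finset.sum_comm, Finset.mul_sum]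
      exact Finset.sum_congr rfl fun ψ _ => (hN ψ).symm
    have h6 : ((Nat.card D.T * q * ∑ ψ ∈ HH D Y, N ψ : ℕ) : ℂ) = (((q - 1) * ∑ t, c t : ℕ) : ℂ) := by
      rw [Nat.cast_mul, h5, Nat.cast_mul, Nat.cast_mul, Nat.cast_sub (show 1 ≤ q by omega), Nat.cast_one]
      have h7 := H.q_ne
      have h8 : (Nat.card D.T : ℂ) ≠ 0 := card_ne_zero_complex
      field_simp
    exact_mod_cast h6
  have hqq : q ≤ q ^ 3 := Nat.le_self_pow (by norm_num) q
  have h5 : ∑ t, c t ≤ Nat.card A * (q ^ 2 * Nat.card D.T) := by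
    have := Fintype.ofFinite G
    have h6 : ∀ t : D.T, c t ≤ (if (t : G) ∈ Z then (q ^ 3 - q) * Nat.card D.T else 0) +
        (if (t : G) ∈ A then q * Nat.card D.T else 0) := by
      intro t
      by_cases h7 : (t : G) ∈ A
      · simp only [c, if_pos h7]
        by_cases h8 : (t : G) ∈ Z
        · rw [if_pos h8, ← add_mul, Nat.sub_add_cancel hqq, ← H.fus.cU, ← D.card_B]
          exact Subgroup.card_le_card_group _
        · rw [if_neg h8, zero_add]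
          exact H.card_cent h7 h8
      · simp only [c, if_neg h7]
        exact Nat.zero_le _
    refine (Finset.sum_le_sum fun t _ => h6 t).trans ?_
    rw [Finset.sum_add_distrib, sum_ite_mem (H.ZA.trans H.AT), sum_ite_mem H.AT, H.cA]
    apply le_of_eq
    simp only [Nat.cast_id]
    zify [hqq]
    ring
  have h6 : ∑ ψ ∈ HH D Y, N ψ ≤ ∑ ψ ∈ HH D Y, q * (q - 1) := by
    rw [Finset.sum_const, H.card_HH, smul_eq_mul]
    have h7 : 0 < Nat.card D.T * q := Nat.mul_pos Nat.card_pos (by omega)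
    refine Nat.le_of_mul_le_mul_left ?_ h7
    rw [h4]
    refine (Nat.mul_le_mul_left _ h5).trans (le_of_eq ?_)
    ring
  have h7 := (Finset.sum_eq_sum_iff_of_le h2).1 (le_antisymm (Finset.sum_le_sum h2) h6) ψ h
  rw [hN, ← h7]

end HS

end Cfsg.Agent.TID.Rk1
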