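import Mathlib
import Cfsg.Agent.TID.Rk1.Borel

/-!
# S4622, the row `SU3`: Mackey formulas (helper17)

* `inner_ind_ind`, `ind_U` : induction from the Borel subgroup;
* `GG D Z θ` : the Gelfand-Graev character is multiplicity free; `GG.norm` : its norm is `|Z| + |T|`;
* `HS.degree` : `χ(1) = k + (q² - 1) r + c q (q - 1)`.
-/

set_option autoImplicit false
set_option linter.unusedSectionVars false
set_option maxHeartbeats 400000

namespace Cfsg.Agent.TID.Rk1

open Cfsg Cfsg.Agent.Characters.Core Cfsg.Agent.Characters Cfsg.Agent.TID.Syl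
open Cfsg.Agent.H664.R1
open Cfsg.Agent.OddOrderCharacters.Clifford (twist twist_def twist_of_mem classInner_indFun_indFun ext_apply_mem
  ext_apply_not_mem ext_apply_coe)
open scoped ComplexConjugate

universe u v

variable {G : Type u} [Group G] [Fintype G]

/-- The unipotent radical in the Borel subgroup. -/
abbrev iU (D : Split G) : D.U →* D.B := Subgroup.inclusion D.UB

/-- The twisted embedding of the torus. -/
def wT (D : Split G) : D.T →* D.B where
  toFun t := ⟨D.w⁻¹ * t * D.w, D.TB (D.wT t t.2)⟩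
  map_one' := Subtype.ext (by simp)
  map_mul' a b := Subtype.ext (by
    show D.w⁻¹ * (a * b) * D.w = D.w⁻¹ * a * D.w * (D.w⁻¹ * b * D.w)
    group)

section split

variable (D : Split G)

theorem twist_cell [Fintype D.B] [Fintype D.T] {α φ : D.B → ℂ} (hα : IsClassFunction D.B α)
    (hφ : IsClassFunction D.B φ) (u : D.U) (b : D.B) :
    twist D.B α φ (u * D.w * b) = ∑ t : D.T, α (iT D t) * conj (φ (wT D t)) := by
  rw [twist_def]
  symm
  refine Fintype.sum_of_injective (fun t : D.T => iU D u * iT D t * (iU D u)⁻¹) (fun t t' h => ?_) _ _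
    (fun y hy => ?_) (fun t => ?_)
  · exact Subgroup.inclusion_injective D.TB (mul_left_cancel (mul_right_cancel h))
  · rw [ext_apply_not_mem, map_zero, mul_zero]
    intro h
    apply hy
    refine ⟨⟨_, D.mem_T_of_conj b.2 u.2 y.2 h⟩, Subtype.ext ?_⟩
    show (u : G) * ((u : G)⁻¹ * y * u) * (u : G)⁻¹ = y
    group
  · rw [hα]
    have h1 : ((u : G) * D.w * b)⁻¹ * ((iU D u * iT D t * (iU D u)⁻¹ : D.B) : G) * (u * D.w * b) =
        ((b⁻¹ * wT D t * b⁻¹⁻¹ : D.B) : G) := by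
      show ((u : G) * D.w * b)⁻¹ * ((u : G) * t * (u : G)⁻¹) * (u * D.w * b) =
        (b : G)⁻¹ * (D.w⁻¹ * t * D.w) * (b : G)⁻¹⁻¹
      group
    rw [h1, ext_apply_coe, hφ]

/-- **Mackey's formula.** -/
theorem inner_ind_ind [Fintype D.B] [Fintype D.T] {α φ : D.B → ℂ} (hα : IsClassFunction D.B α)
    (hφ : IsClassFunction D.B φ) : classInner (indFun D.B α) (indFun D.B φ) =
      classInner α φ + classInner (α ∘ iT D) (φ ∘ wT D) := by
  have := Fintype.ofFinite D.U
  rw [classInner_indFun_indFun, D.sum_eq, Finset.sum_congr rfl fun (b : D.B) _ => twist_of_mem D.B α φ hφ b b.2,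
    Finset.sum_congr rfl fun u _ => Finset.sum_congr rfl fun b _ => twist_cell D hα hφ u b,
    classInner_def (α ∘ iT D)]
  simp only [Finset.sum_const, Finset.card_univ, nsmul_eq_mul, ← Nat.card_eq_fintype_card, Function.comp_apply]
  rw [D.card_B]
  have h1 : (Nat.card D.U : ℂ) ≠ 0 := card_ne_zero_complex
  have h2 : (Nat.card D.T : ℂ) ≠ 0 := card_ne_zero_complex
  push_cast
  field_simp

theorem norm_wT [Fintype D.T] (φ : D.B → ℂ) :
    classInner (φ ∘ wT D) (φ ∘ wT D) = classInner (φ ∘ iT D) (φ ∘ iT D) := by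
  rw [classInner_def, classInner_def]
  congr 1
  let e : D.T ≃ D.T :=
    { toFun := fun t => ⟨_, D.wT t t.2⟩
      invFun := fun t => ⟨_, D.wT' t t.2⟩
      left_inv := fun t => Subtype.ext (by simp only; group)
      right_inv := fun t => Subtype.ext (by simp only; group) }
  exact Fintype.sum_equiv e _ _ fun t => rfl

open Classical in
theorem ind_U {φ : D.B → ℂ} (hφ : IsClassFunction D.B φ) (v : D.U) :
    indFun D.B φ v = φ (iU D v) + if v = 1 then Nat.card D.U * φ 1 else 0 := by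
  have := Fintype.ofFinite D.U
  have := Fintype.ofFinite D.B
  rw [Brauer.indFun_apply, D.sum_eq]
  have h1 : ∀ b : D.B, extendByZero D.B φ ((b : G)⁻¹ * v * b) = φ (iU D v) := by
    intro b
    have h2 : (b : G)⁻¹ * v * b = ((b⁻¹ * iU D v * b⁻¹⁻¹ : D.B) : G) := by
      rw [inv_inv]; rfl
    rw [h2, ext_apply_coe, hφ]
  have h2 : ∀ (u : D.U) (b : D.B), extendByZero D.B φ (((u : G) * D.w * b)⁻¹ * v * ((u : G) * D.w * b)) =
      if v = 1 then φ 1 else 0 := by
    intro u b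
    split_ifs with h
    · rw [h, Subgroup.coe_one, mul_one, inv_mul_cancel]
      exact ext_apply_coe D.B φ 1
    · exact ext_apply_not_mem _ _ _ fun h3 => h (Subtype.ext (D.eq_one_of_conj b.2 u.2 v.2 h3))
  rw [Finset.sum_congr rfl fun b _ => h1 b, Finset.sum_congr rfl fun u _ => Finset.sum_congr rfl fun b _ => h2 u b]
  simp only [Finset.sum_const, Finset.card_univ, nsmul_eq_mul, ← Nat.card_eq_fintype_card]
  have h3 : (Nat.card D.B : ℂ) ≠ 0 := card_ne_zero_complex
  split_ifs <;> field_simp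
  ring

end split

/-- The Gelfand-Graev data. -/
structure GG (D : Split G) [Fintype D.U] (Z : Subgroup G) (θ : D.U →* ℂˣ) : Prop where
  ne : θ ≠ 1
  mv : ∀ t ∈ D.T, t ∉ Z → ∃ (v : D.U) (h : t⁻¹ * (v : G) * t ∈ D.U), θ v ≠ θ ⟨_, h⟩
  one : ∀ χ : G → ℂ, IsIrrCharacter G χ → classInner (fun u : D.U => χ u) (fun u => (θ u : ℂ)) = 0 ∨
    classInner (fun u : D.U => χ u) (fun u => (θ u : ℂ)) = 1

namespace HS

variable {D : Split G} {Y Z A : Subgroup G} {q : ℕ} (H : HS D Y Z A q)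

include H

theorem norm_gg [Fintype D.U] {θ : D.U →* ℂˣ} (hθ : GG D Z θ) :
    classInner (D.gg θ) (D.gg θ) = ((Nat.card Z + Nat.card D.T : ℕ) : ℂ) := by
  classical
  have := Fintype.ofFinite D.T
  have := Fintype.ofFinite D.B
  rw [Split.gg_def, classInner_indFun_indFun, D.sum_eq]
  have hirr : IsIrrCharacter D.U (fun b => (θ b : ℂ)) := Cfsg.Agent.Characters.Linear.isIrrCharacter_hom θ
  have h1 : ∀ (u : D.U) (t : D.T), twist D.U (fun u => (θ u : ℂ)) (fun u => (θ u : ℂ)) (D.borelEquiv (u, t)) =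
      if (t : G) ∈ Z then (Nat.card D.U : ℂ) else 0 := by
    intro u t
    rw [Split.borelEquiv_apply]
    split_ifs with h
    · have h2 := twist_of_mem D.U (fun u => (θ u : ℂ)) _ (isIrr_isClassFunction hirr) _ u.2
      rw [classInner_irr_self hirr, mul_one] at h2
      rw [← h2, twist_def, twist_def]
      refine Finset.sum_congr rfl fun v _ => ?_
      have h3 : ((u : G) * t)⁻¹ * v * (u * t) = (u : G)⁻¹ * v * u := by
        calc ((u : G) * t)⁻¹ * v * (u * t) = (t : G)⁻¹ * ((u : G)⁻¹ * v * u * t) := by group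
          _ = _ := by rw [← H.Zc _ h, inv_mul_cancel_left]
      rw [h3]
    · apply CharactersDeep.MackeyLinear.twist_eq_zero
      obtain ⟨v, hv, hne⟩ := hθ.mv t t.2 h
      have h3 : ((u : G) * t)⁻¹ * ((u * v * u⁻¹ : D.U) : G) * (u * t) = (t : G)⁻¹ * v * t := by
        show ((u : G) * t)⁻¹ * ((u : G) * v * (u : G)⁻¹) * (u * t) = _
        group
      refine ⟨u * v * u⁻¹, by rw [h3]; exact hv, ?_⟩
      rw [map_mul, map_mul, map_inv, mul_comm (θ u), mul_inv_cancel_right]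
      intro h4
      apply hne
      rw [h4]
      congr 1
      exact Subtype.ext h3
  have h2 : ∀ (u : D.U) (b : D.B), twist D.U (fun u => (θ u : ℂ)) (fun u => (θ u : ℂ)) (u * D.w * b) = 1 := by
    intro u b
    rw [twist_def, Finset.sum_eq_single (1 : D.U)]
    · have h3 : ((u : G) * D.w * b)⁻¹ * ((1 : D.U) : G) * (u * D.w * b) = ((1 : D.U) : G) := by
        rw [Subgroup.coe_one]; group
      rw [h3, ext_apply_coe, map_one, Units.val_one, map_one, mul_one]
    · intro v _ hv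
      rw [ext_apply_not_mem, map_zero, mul_zero]
      intro h
      exact hv (Subtype.ext (D.eq_one_of_conj b.2 u.2 v.2 (D.UB h)))
    · intro h
      exact absurd (Finset.mem_univ _) h
  rw [← Equiv.sum_comp D.borelEquiv, Fintype.sum_prod_type,
    Finset.sum_congr rfl fun u _ => Finset.sum_congr rfl fun t _ => h1 u t,
    Finset.sum_congr rfl fun u _ => Finset.sum_congr rfl fun b _ => h2 u b, sum_ite_mem (H.ZA.trans H.AT)]
  simp only [Finset.sum_const, Finset.card_univ, nsmul_eq_mul, mul_one, ← Nat.card_eq_fintype_card]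
  rw [D.card_B]
  have h5 : (Nat.card D.U : ℂ) ≠ 0 := card_ne_zero_complex
  push_cast
  field_simp

theorem theta_Y (θ : D.U →* ℂˣ) (x : D.U) (hx : (x : G) ∈ Y) : θ x = 1 := by
  obtain ⟨u, hu, hu1⟩ := H.fus.exists_u
  obtain ⟨v, hv, h⟩ := H.fus.com u hu hu1 x hx
  have h1 : (⟨v, hv⟩ : D.U) * ⟨u, hu⟩ * (⟨v, hv⟩ : D.U)⁻¹ = ⟨u, hu⟩ * x := Subtype.ext h
  have h2 := congrArg θ h1
  rw [map_mul, map_mul, map_inv, mul_comm (θ ⟨v, hv⟩), mul_inv_cancel_right, map_mul] at h2
  exact (mul_eq_left.1 h2.symm)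

theorem fx_iU (α : D.B → ℂ) : fx (Y.comap D.U.subtype) (α ∘ iU D) = fx (YB D Y) α ∘ iU D := by
  refine (fx_comp (iU D) _ _ ?_ (fun y _ h => Subgroup.inclusion_injective D.UB (by rw [h, map_one])) α).symm
  ext b
  constructor
  · rintro ⟨y, hy, rfl⟩
    exact hy
  · intro hb
    exact ⟨⟨b, H.fus.XU hb⟩, hb, rfl⟩

variable [Fintype (IrrCharacter D.B)]

theorem inner_gg_ind [Fintype D.U] (θ : D.U →* ℂˣ) {ψ : IrrCharacter D.B} (hψ : ψ ∈ HH D Y) :
    classInner (D.gg θ) (indFun D.B (ψ : D.B → ℂ)) = ((q * (q - 1) : ℕ) : ℂ) := by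
  classical
  have h0 : classInner (fun u => (θ u : ℂ)) ((ψ : D.B → ℂ) ∘ iU D) = 0 := by
    have h1 : fx (Y.comap D.U.subtype) (fun u => (θ u : ℂ)) = fun u => (θ u : ℂ) :=
      fx_of_inv _ fun g y hy => by rw [map_mul, H.theta_Y θ y hy, mul_one]
    rw [← h1, inner_fx, H.fx_iU, mem_HH.1 hψ]
    exact classInner_zero_right _
  rw [Split.gg_def, Brauer.classInner_indFun _ _ _ _ (Brauer.indFun_isClassFunction _ _), classInner_def]
  rw [classInner_def] at h0
  simp only [ind_U D (isIrr_isClassFunction ψ.2), map_add, mul_add, Finset.sum_add_distrib]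
  rw [show (Nat.card D.U : ℂ)⁻¹ * ∑ u : D.U, (θ u : ℂ) * conj ((ψ : D.B → ℂ) (iU D u)) = 0 from h0, zero_add,
    Finset.sum_eq_single (1 : D.U) (fun u _ hu => by rw [if_neg hu, map_zero, mul_zero])
      (fun h => (h (Finset.mem_univ _)).elim), if_pos rfl, map_one, Units.val_one, one_mul, H.deg_HH hψ, map_mul,
    Complex.conj_natCast, Complex.conj_natCast, inv_mul_cancel_left₀ card_ne_zero_complex]

theorem norm_ind_le {ψ : IrrCharacter D.B} (hψ : ψ ∈ HH D Y) {n : ℕ}
    (hn : classInner (indFun D.B (ψ : D.B → ℂ)) (indFun D.B (ψ : D.B → ℂ)) = n) : n ≤ 1 + q * (q - 1) := by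
  have := Fintype.ofFinite D.B
  have := Fintype.ofFinite D.T
  have h1 : IsCharacter D.T ((ψ : D.B → ℂ) ∘ iT D) := isCharacter_comp _ (isIrr_isCharacter ψ.2)
  have h2 : IsCharacter D.T ((ψ : D.B → ℂ) ∘ wT D) := isCharacter_comp _ (isIrr_isCharacter ψ.2)
  obtain ⟨c, hc⟩ := classInner_isNat h1 h2
  have h3 := two_inner_le h1 h2 (H.norm_T hψ) ((norm_wT D _).trans (H.norm_T hψ)) hc
  rw [inner_ind_ind D (isIrr_isClassFunction ψ.2) (isIrr_isClassFunction ψ.2), classInner_irr_self ψ.2, hc] at hn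
  have h4 : 1 + c = n := by exact_mod_cast hn
  omega

/-- **The degree formula.** -/
theorem degree [Fintype D.U] [Fintype D.B] {θ : D.U →* ℂˣ} (hθ : θ ≠ 1) {χ : G → ℂ} (hχ : IsClassFunction G χ) :
    χ 1 = classInner (fun u : D.U => χ u) 1 + (q ^ 2 - 1) * classInner (fun u : D.U => χ u) (fun u => (θ u : ℂ)) +
      (∑ ψ ∈ HH D Y, classInner (fun b : D.B => χ b) (ψ : D.B → ℂ)) * ((q * (q - 1) : ℕ) : ℂ) := by
  have := Fintype.ofFinite (YB D Y)
  have := H.normal
  obtain ⟨u, hu, hu1⟩ := H.fus.exists_u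
  have h1 := congrFun (sub_fx (YB D Y) (fun _ => mem_HH) (Brauer.isClassFunction_restrict hχ D.B)) 1
  rw [Pi.sub_apply, fx_apply, Finset.sum_apply, Finset.sum_congr (s₁ := HH D Y) rfl fun ψ hψ => by
    rw [Pi.smul_apply, H.deg_HH hψ, smul_eq_mul], ← Finset.sum_mul, H.card_YB] at h1
  simp only [one_mul, Subgroup.coe_one] at h1
  have h2 : ∑ y : YB D Y, (χ ((y : D.B) : G) - χ u) = ∑ v : D.U, (χ v - χ u) := by
    refine Fintype.sum_of_injective (fun y : YB D Y => (⟨((y : D.B) : G), H.fus.XU y.2⟩ : D.U))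
      (fun y y' h => Subtype.ext (Subtype.ext (congrArg (fun v : D.U => (v : G)) h))) _ _ (fun v hv => ?_)
      (fun y => rfl)
    obtain ⟨g, hg⟩ := H.fus.f2 u hu hu1 v v.2 (fun h => hv ⟨⟨iU D v, h⟩, rfl⟩)
    rw [← hg, hχ, sub_self]
  simp only [Finset.sum_sub_distrib, Finset.sum_const, Finset.card_univ, nsmul_eq_mul,
    ← Nat.card_eq_fintype_card] at h2
  rw [H.card_YB, H.fus.cU] at h2
  rw [H.fus.inner_theta hχ hu hu1 θ hθ (H.theta_Y θ), ← h1, classInner_def, H.fus.cU]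
  simp only [Pi.one_apply, map_one, mul_one]
  have h3 := H.q_ne
  push_cast at h2 ⊢
  field_simp
  linear_combination (q : ℂ) ^ 2 * h2

end HS

end Cfsg.Agent.TID.Rk1
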