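import Mathlib
import Cfsg.Agent.TID.Rk1.Mackey
import Cfsg.Agent.S0154

/-!
# S4622, the row `SU3`: the singular characters (helper17)

`Sing θ χ` : `χ` is not linear and is not a constituent of the Gelfand-Graev character.

* `HS.noncusp` : the characters with fixed points of `U`;
* `HS.matching` : the multiplicities of the members of `HH D Y` in the singular characters form a permutation matrix.
-/

set_option autoImplicit false
set_option linter.unusedSectionVars false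
set_option maxHeartbeats 400000

namespace Cfsg.Agent.TID.Rk1

open Cfsg Cfsg.Agent.Characters.Core Cfsg.Agent.Characters Cfsg.Agent.TID.Syl
open Cfsg.Agent.H664.R1
open scoped ComplexConjugate

universe u v

variable {G : Type u} [Group G] [Fintype G]

/-- The number of the fixed points of `U`. -/
noncomputable abbrev kk (D : Split G) [Fintype D.U] (χ : G → ℂ) : ℂ := classInner (fun u : D.U => χ u) 1

/-- The multiplicity in the Gelfand-Graev character. -/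
noncomputable abbrev rr {D : Split G} [Fintype D.U] (θ : D.U →* ℂˣ) (χ : G → ℂ) : ℂ :=
  classInner (fun u : D.U => χ u) (fun u => (θ u : ℂ))

/-- The multiplicity in the restriction to `B`. -/
noncomputable abbrev nn (D : Split G) [Fintype D.B] (χ : G → ℂ) (ψ : D.B → ℂ) : ℂ :=
  classInner (fun b : D.B => χ b) ψ

/-- Singular characters. -/
def Sing {D : Split G} [Fintype D.U] (θ : D.U →* ℂˣ) (χ : G → ℂ) : Prop := rr θ χ = 0 ∧ χ 1 ≠ 1

/-- The two constituents of a reducible principal series. -/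
structure Pr {D : Split G} [Fintype D.U] (θ : D.U →* ℂˣ) (q : ℕ) (f : D.B →* ℂˣ) (χ₁ χ₂ : IrrCharacter G) : Prop where
  ne : χ₁ ≠ χ₂
  sum : D.ps f = (χ₁ : G → ℂ) + (χ₂ : G → ℂ)
  k1 : kk D χ₁ = 1
  k2 : kk D χ₂ = 1
  r1 : rr θ χ₁ = 0
  r2 : rr θ χ₂ = 1
  deg : ((χ₁ : G → ℂ) 1 = 1 ∧ (χ₂ : G → ℂ) 1 = ((q ^ 3 : ℕ) : ℂ)) ∨
    ((χ₁ : G → ℂ) 1 = ((q ^ 2 - q + 1 : ℕ) : ℂ) ∧ (χ₂ : G → ℂ) 1 = ((q * (q ^ 2 - q + 1) : ℕ) : ℂ))

namespace HS

variable {D : Split G} {Y Z A : Subgroup G} {q : ℕ} (H : HS D Y Z A q) [Fintype D.U] {θ : D.U →* ℂˣ}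

include H

theorem noncusp (hθ : θ ≠ 1) (χ : IrrCharacter G) (hk : kk D χ ≠ 0) :
    ∃ f : D.B →* ℂˣ, (∀ b : D.B, (b : G) ∈ D.U → f b = 1) ∧
      (((χ : G → ℂ) 1 = ((q ^ 3 + 1 : ℕ) : ℂ) ∧ rr θ χ = 1) ∨ ∃ χ₁ χ₂, Pr θ q f χ₁ χ₂ ∧ (χ = χ₁ ∨ χ = χ₂)) := by
  obtain ⟨f, hf, h1⟩ := D.exists_ps χ.2 hk
  refine ⟨f, hf, ?_⟩
  by_cases hw : ∀ t, ∀ ht : t ∈ D.T, f ⟨t, D.TB ht⟩ = f ⟨D.w⁻¹ * t * D.w, D.TB (D.wT t ht)⟩
  · right
    obtain ⟨u, hu, hu1⟩ := H.fus.exists_u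
    obtain ⟨χ₁, χ₂, hne, h2, h3, h4, h5, h6, h7⟩ := H.fus.pair hu hu1 f ⟨hf, hw⟩
    refine ⟨χ₁, χ₂, ⟨hne, h2, h5, h6, ?_, ?_, h7⟩, ?_⟩
    · rw [rr, H.fus.inner_theta (isIrr_isClassFunction χ₁.2) hu hu1 θ hθ (H.theta_Y θ), h5, h3, sub_self]
    · rw [rr, H.fus.inner_theta (isIrr_isClassFunction χ₂.2) hu hu1 θ hθ (H.theta_Y θ), h6, h4, sub_zero]
    · by_contra h8
      push Not at h8
      apply h1
      rw [h2, classInner_add_left, classInner_irr_ne χ₁.2 χ.2 (fun h => h8.1 (Subtype.ext h.symm)),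
        classInner_irr_ne χ₂.2 χ.2 (fun h => h8.2 (Subtype.ext h.symm)), add_zero]
  · left
    push Not at hw
    have h2 : D.ps f = (χ : G → ℂ) := by
      by_contra h
      exact h1 (classInner_irr_ne (D.isIrr_ps f hw) χ.2 h)
    rw [← h2]
    refine ⟨?_, D.inner_U f hf θ hθ⟩
    rw [D.ps_one, H.fus.cU]
    push_cast
    rfl

variable [Fintype D.B] [Fintype (IrrCharacter D.B)]

theorem exists_nn (hθ : θ ≠ 1) {χ : IrrCharacter G} (h : Sing θ χ) : ∃ ψ ∈ HH D Y, nn D χ ψ ≠ 0 := by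
  by_contra hcon
  push Not at hcon
  have h1 := H.degree hθ (isIrr_isClassFunction χ.2)
  rw [Finset.sum_eq_zero hcon, show classInner _ _ = 0 from h.1, mul_zero, zero_mul, add_zero, add_zero] at h1
  obtain ⟨f, -, h2 | ⟨χ₁, χ₂, h2, h3⟩⟩ := H.noncusp hθ χ (by
    rw [kk, ← h1]; exact isIrr_apply_one_ne_zero χ.2)
  · exact zero_ne_one (h.1.symm.trans h2.2)
  · apply h.2
    rw [h1]
    rcases h3 with rfl | rfl
    · exact h2.k1
    · exact h2.k2

theorem matching (hθ : GG D Z θ) (hk : Nat.card Z * (q ^ 2 + q + 2) ≤ Nat.card (ConjClasses G))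
    (hl : (commutator G).index ≤ Nat.card Z) :
    (∀ χ : IrrCharacter G, Sing θ χ → ∃ ψ ∈ HH D Y, nn D χ ψ = 1 ∧ ∀ ψ' ∈ HH D Y, ψ' ≠ ψ → nn D χ ψ' = 0) ∧
    (∀ ψ ∈ HH D Y, ∃ χ : IrrCharacter G, Sing θ χ ∧ nn D χ ψ = 1 ∧
      ∀ χ' : IrrCharacter G, Sing θ χ' → χ' ≠ χ → nn D χ' ψ = 0) := by
  classical
  have hq := H.fus.hq
  have := finite_irr (G := G)
  have := Fintype.ofFinite (IrrCharacter G)
  have hres : ∀ χ : IrrCharacter G, IsCharacter D.B (fun b : D.B => (χ : G → ℂ) b) := fun χ =>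
    Brauer.isCharacter_restrict (isIrr_isCharacter χ.2) _
  have h1 : ∀ (χ : IrrCharacter G) (ψ : IrrCharacter D.B), ∃ n : ℕ, nn D χ ψ = n := fun χ ψ =>
    classInner_isNat (hres χ) (isIrr_isCharacter ψ.2)
  choose n hn using h1
  have h2 : ∀ χ : IrrCharacter G, ∃ r : ℕ, r ≤ 1 ∧ rr θ χ = r := by
    intro χ
    rcases hθ.one _ χ.2 with h | h
    · exact ⟨0, by omega, h.trans Nat.cast_zero.symm⟩
    · exact ⟨1, le_rfl, h.trans Nat.cast_one.symm⟩
  choose r hr1 hr using h2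
  have e1 : ∀ (χ : IrrCharacter G) (ψ : IrrCharacter D.B), classInner (indFun D.B (ψ : D.B → ℂ)) (χ : G → ℂ) = n χ ψ := by
    intro χ ψ
    rw [Brauer.classInner_indFun _ _ _ _ (isIrr_isClassFunction χ.2), ← classInner_conj_symm,
      show classInner _ _ = _ from hn χ ψ, Complex.conj_natCast]
  have e2 : ∀ (χ : IrrCharacter G) (ψ : IrrCharacter D.B), classInner (χ : G → ℂ) (indFun D.B (ψ : D.B → ℂ)) = n χ ψ := by
    intro χ ψ
    rw [← classInner_conj_symm, e1, Complex.conj_natCast]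
  have e3 : ∀ χ : IrrCharacter G, classInner (D.gg θ) (χ : G → ℂ) = r χ := by
    intro χ
    rw [D.inner_gg θ χ.2, ← classInner_conj_symm, show classInner _ _ = _ from hr χ, Complex.conj_natCast]
  set S := Finset.univ.filter (fun χ : IrrCharacter G => Sing θ χ) with hS
  have memS : ∀ χ : IrrCharacter G, χ ∈ S ↔ Sing θ χ := fun χ => by
    rw [hS, Finset.mem_filter, and_iff_right (Finset.mem_univ _)]
  -- the columns
  have c1 : ∀ ψ ∈ HH D Y, ∑ χ ∈ S, n χ ψ * n χ ψ ≤ 1 := by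
    intro ψ hψ
    have k1 : ∑ χ, n χ ψ * n χ ψ ≤ 1 + q * (q - 1) := by
      refine H.norm_ind_le hψ ?_
      rw [inner_eq_sum_left (Brauer.indFun_isClassFunction _ _)]
      simp only [e1, e2]
      push_cast
      rfl
    have k2 : ∑ χ, r χ * n χ ψ = q * (q - 1) := by
      have k3 := H.inner_gg_ind θ hψ
      rw [inner_eq_sum_left (isCharacter_isClassFunction (D.isCharacter_gg θ))] at k3
      simp only [e2, e3] at k3
      exact_mod_cast k3
    have k3 : ∑ χ ∈ S, n χ ψ * n χ ψ + ∑ χ, r χ * n χ ψ ≤ ∑ χ, n χ ψ * n χ ψ := by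
      rw [hS, Finset.sum_filter, ← Finset.sum_add_distrib]
      refine Finset.sum_le_sum fun χ _ => ?_
      split_ifs with h
      · have k4 : r χ = 0 := by
          have k5 := hr χ
          rw [h.1] at k5
          exact_mod_cast k5.symm
        rw [k4, zero_mul, add_zero]
      · rw [zero_add]
        rcases Nat.eq_zero_or_pos (n χ ψ) with k4 | k4
        · rw [k4, mul_zero, mul_zero]
        · exact Nat.mul_le_mul_right _ ((hr1 χ).trans k4)
    omega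
  -- the rows
  have c2 : ∀ χ ∈ S, 1 ≤ ∑ ψ ∈ HH D Y, n χ ψ * n χ ψ := by
    intro χ hχ
    obtain ⟨ψ, hψ, h⟩ := H.exists_nn hθ.ne ((memS χ).1 hχ)
    have k1 : n χ ψ ≠ 0 := by
      intro k2
      apply h
      rw [hn, k2, Nat.cast_zero]
    exact (Nat.mul_pos (Nat.pos_of_ne_zero k1) (Nat.pos_of_ne_zero k1)).trans_le
      (Finset.single_le_sum (f := fun ψ => n χ ψ * n χ ψ) (fun _ _ => Nat.zero_le _) hψ)
  -- the count
  have c3 : (HH D Y).card ≤ S.card := by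
    have k1 := card_constituents_le (D.isCharacter_gg θ) (H.norm_gg hθ)
    have k2 := (S0154.result (G := G)).trans_le hl
    rw [Nat.card_eq_fintype_card, Fintype.card_subtype] at k1 k2
    have k3 : (Finset.univ : Finset (IrrCharacter G)) ⊆
        (Finset.univ.filter fun χ : IrrCharacter G => classInner (D.gg θ) (χ : G → ℂ) ≠ 0) ∪
          ((Finset.univ.filter fun χ : IrrCharacter G => (χ : G → ℂ) 1 = 1) ∪ S) := by
      intro χ _
      simp only [Finset.mem_union, Finset.mem_filter, Finset.mem_univ, true_and, memS]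
      by_cases k4 : rr θ χ = 0
      · by_cases k5 : (χ : G → ℂ) 1 = 1
        · exact Or.inr (Or.inl k5)
        · exact Or.inr (Or.inr ⟨k4, k5⟩)
      · left
        rwa [e3, ← hr]
    have k4 := (Finset.card_le_card k3).trans ((Finset.card_union_le _ _).trans
      (Nat.add_le_add k1 ((Finset.card_union_le _ _).trans (Nat.add_le_add_right k2 _))))
    rw [Finset.card_univ, ← Nat.card_eq_fintype_card, card_irr, H.cT, H.cA] at k4
    rw [H.card_HH, H.cA]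
    have k5 := hk.trans k4
    obtain ⟨s, rfl⟩ : ∃ s, q = s + 1 := ⟨q - 1, by omega⟩
    rw [Nat.add_sub_cancel] at k5
    nlinarith
  have c4 : ∑ χ ∈ S, ∑ ψ ∈ HH D Y, n χ ψ * n χ ψ = ∑ ψ ∈ HH D Y, ∑ χ ∈ S, n χ ψ * n χ ψ := Finset.sum_comm
  have c5 := Finset.sum_le_sum c1
  have c6 := Finset.sum_le_sum c2
  rw [Finset.card_eq_sum_ones, Finset.card_eq_sum_ones] at c3
  constructor
  · intro χ hχ
    have k1 := (Finset.sum_eq_sum_iff_of_le c2).1 (by omega) χ ((memS χ).2 hχ)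
    obtain ⟨ψ, hψ, k2, k3⟩ := unit_of_sq _ _ k1.symm
    exact ⟨ψ, hψ, by rw [hn, k2, Nat.cast_one], fun ψ' k4 k5 => by rw [hn, k3 ψ' k4 k5, Nat.cast_zero]⟩
  · intro ψ hψ
    have k1 := (Finset.sum_eq_sum_iff_of_le c1).1 (by omega) ψ hψ
    obtain ⟨χ, hχ, k2, k3⟩ := unit_of_sq _ (fun χ => n χ ψ) k1
    exact ⟨χ, (memS χ).1 hχ, by rw [hn, k2, Nat.cast_one], fun χ' k4 k5 => by
      rw [hn, k3 χ' ((memS χ').2 k4) k5, Nat.cast_zero]⟩

end HS

end Cfsg.Agent.TID.Rk1
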