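import Mathlib
import Cfsg.Agent.TID.Rk1.Sing
import Cfsg.Agent.Characters.Central

/-!
# S4622, the row `SU3`: `Perm` for a split rank one group of unitary type (helper17)
-/

set_option autoImplicit false
set_option linter.unusedSectionVars false
set_option maxHeartbeats 400000

namespace Cfsg.Agent.TID.Rk1

open Cfsg Cfsg.Agent.Characters.Core Cfsg.Agent.Characters Cfsg.Agent.TID.Syl
open Cfsg.Agent.H664.R1
open Cfsg.Agent.TID.Blk (Nm)
open scoped ComplexConjugate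

universe u v

variable {G : Type u} [Group G] [Fintype G]

/-- The character on the fixed points. -/
noncomputable abbrev hb (P N : Subgroup G) (χ : G → ℂ) : N → ℂ := fx (P.subgroupOf N) (fun b : N => χ b)

/-- `ρ` is the dual of `χ`. -/
def SD (P N : Subgroup G) (χ ρ : G → ℂ) : Prop :=
  (hb P N χ = 0 ∧ ρ = χ) ∨ (hb P N χ ≠ 0 ∧ ρ = indFun N (hb P N χ) - χ ∧ hb P N ρ = hb P N χ)

theorem SD.inj {P N : Subgroup G} {χ χ' ρ : G → ℂ} (h : SD P N χ ρ) (h' : SD P N χ' ρ) : χ = χ' := by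
  rcases h with ⟨h1, h2⟩ | ⟨h1, h2, h3⟩ <;> rcases h' with ⟨h4, h5⟩ | ⟨h4, h5, h6⟩
  · rw [← h2, h5]
  · exact (h4 (by rw [← h6, h2, h1])).elim
  · exact (h1 (by rw [← h3, h5, h4])).elim
  · rw [← h6, h3, h2] at h5
    exact sub_right_injective h5

theorem permAt_of {p h : ℕ} {P N : Subgroup G} (hN : N = Nm P) [Fintype N] (Sg : IrrCharacter G → Prop)
    (h1 : ∀ χ : IrrCharacter G, nu p (χ : G → ℂ) = h → ∃ ρ : IrrCharacter G, Sg ρ ∧ SD P N χ ρ)
    (h2 : ∀ ψ : IrrCharacter N, nu p (ψ : N → ℂ) = h → ∀ ρ : IrrCharacter G, Sg ρ →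
      ∃ χ : IrrCharacter G, nu p (χ : G → ℂ) = h ∧ SD P N χ ρ)
    (row : ∀ χ : IrrCharacter G, nu p (χ : G → ℂ) = h → ∀ ρ : IrrCharacter G, Sg ρ → ∃ ψ : IrrCharacter N,
      nu p (ψ : N → ℂ) = h ∧ classInner (fun b : N => (ρ : G → ℂ) b) ψ = 1 ∧ ∀ ψ' : IrrCharacter N,
        nu p (ψ' : N → ℂ) = h → ψ' ≠ ψ → classInner (fun b : N => (ρ : G → ℂ) b) ψ' = 0)
    (col : ∀ ψ : IrrCharacter N, nu p (ψ : N → ℂ) = h → ∃ ρ : IrrCharacter G, Sg ρ ∧
      classInner (fun b : N => (ρ : G → ℂ) b) ψ = 1 ∧ ∀ ρ' : IrrCharacter G, Sg ρ' → ρ' ≠ ρ →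
        classInner (fun b : N => (ρ' : G → ℂ) b) ψ = 0) : PermAt p P h := by
  subst hN
  have key : ∀ (χ ρ : G → ℂ), SD P (Nm P) χ ρ → ∀ ψ, mm P χ ψ = classInner (fun b : Nm P => ρ b) ψ := by
    intro χ ρ h ψ
    rw [mm_eq]
    rcases h with ⟨h3, h4⟩ | ⟨h3, h4, -⟩
    · rw [sd_of_cusp h3, h4]
    · rw [sd_of_not h3, h4, du, ind_eq]
      rfl
  constructor
  · intro χ hχ
    obtain ⟨ρ, h3, h4⟩ := h1 χ hχ
    obtain ⟨ψ, h5, h6, h7⟩ := row χ hχ ρ h3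
    exact ⟨ψ, h5, by rw [key _ _ h4, h6], fun ψ' h8 h9 => by rw [key _ _ h4, h7 ψ' h8 h9]⟩
  · intro ψ hψ
    obtain ⟨ρ, h3, h4, h5⟩ := col ψ hψ
    obtain ⟨χ, h6, h7⟩ := h2 ψ hψ ρ h3
    refine ⟨χ, h6, by rw [key _ _ h7, h4], fun χ' h8 h9 => ?_⟩
    obtain ⟨ρ', h10, h11⟩ := h1 χ' h8
    rw [key _ _ h11]
    refine h5 ρ' h10 fun h12 => h9 (Subtype.ext ?_)
    rw [h12] at h11
    exact h11.inj h7

theorem nu_of {X : Type u} [Group X] {p n m : ℕ} (hp : p.Prime) {χ : X → ℂ} (h : χ 1 = ((p ^ n * m : ℕ) : ℂ))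
    (hm : ¬ p ∣ m) : nu p χ = n := by
  have h0 : m ≠ 0 := by
    rintro rfl
    exact hm (dvd_zero p)
  unfold nu
  rw [H672.charDegree_of_eq h, Nat.factorization_mul (pow_ne_zero n hp.ne_zero) h0, Finsupp.add_apply,
    Nat.factorization_eq_zero_of_not_dvd hm, hp.factorization_pow, Finsupp.single_eq_same, add_zero]

theorem nu_zero {X : Type u} [Group X] {p m : ℕ} (hp : p.Prime) {χ : X → ℂ} (h : χ 1 = (m : ℂ)) (hm : ¬ p ∣ m) :
    nu p χ = 0 :=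
  nu_of hp (n := 0) (by rw [pow_zero, one_mul, h]) hm

theorem borel_eq (D : Split G) (h : ∃ u ∈ D.U, u ≠ 1) : D.B = Nm D.U := by
  apply le_antisymm
  · intro b hb
    rw [Subgroup.mem_normalizer_iff]
    refine fun u => ⟨D.nU b hb u, fun hu => ?_⟩
    have h1 := D.nU' hb hu
    rwa [show b⁻¹ * (b * u * b⁻¹) * b = u by group] at h1
  · intro x hx
    by_contra hxB
    obtain ⟨⟨v, b⟩, h1⟩ := D.cellEquiv.surjective ⟨x, hxB⟩
    have h2 : (v : G) * D.w * b = x := congrArg Subtype.val h1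
    obtain ⟨u, hu, hu1⟩ := h
    apply hu1
    refine D.eq_one_of_conj b.2 v.2 hu (D.UB ?_)
    rw [h2]
    have h3 := (Subgroup.mem_normalizer_iff.1 (inv_mem hx) u).1 hu
    rwa [inv_inv] at h3

theorem hb_one (D : Split G) [Fintype D.U] (χ : G → ℂ) : hb D.U D.B χ 1 = kk D χ := by
  have := Fintype.ofFinite (D.U.subgroupOf D.B)
  rw [hb, fx_apply, kk, classInner_def, Nat.card_congr (Subgroup.subgroupOfEquivOfLe D.UB).toEquiv]
  congr 1
  refine Fintype.sum_equiv (Subgroup.subgroupOfEquivOfLe D.UB).toEquiv _ _ fun z => ?_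
  rw [Pi.one_apply, map_one, mul_one, one_mul]
  rfl

theorem hb_char (D : Split G) {χ : G → ℂ} (hχ : IsCharacter G χ) : IsCharacter D.B (hb D.U D.B χ) :=
  haveI := D.normal_U
  fx_char _ (Brauer.isCharacter_restrict hχ _)

theorem hb_eq (D : Split G) [Fintype D.U] {f : D.B →* ℂˣ} (hf : ∀ b : D.B, (b : G) ∈ D.U → f b = 1)
    {χ : IrrCharacter G} (hk : kk D χ = 1) (h : classInner (D.ps f) (χ : G → ℂ) ≠ 0) :
    hb D.U D.B χ = fun b => (f b : ℂ) := by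
  have := Fintype.ofFinite D.B
  refine eq_of_deg_le (hb_char D (isIrr_isCharacter χ.2)) (Cfsg.Agent.Characters.Linear.isIrrCharacter_hom f) ?_
    (a := 1) (b := 1) (by rw [hb_one, hk, Nat.cast_one]) (by simp) le_rfl
  rw [hb, inner_fx, fx_of_inv _ fun g y hy => by rw [map_mul, hf y hy, mul_one], ← classInner_conj_symm,
    ← D.inner_ps f χ.2]
  exact fun h1 => h ((map_eq_zero _).1 h1)

theorem Pr.sd {D : Split G} [Fintype D.U] {θ : D.U →* ℂˣ} {q : ℕ} {f : D.B →* ℂˣ}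
    (hf : ∀ b : D.B, (b : G) ∈ D.U → f b = 1) {χ₁ χ₂ : IrrCharacter G} (h : Pr θ q f χ₁ χ₂) :
    SD D.U D.B χ₂ χ₁ := by
  have h1 : hb D.U D.B χ₁ = fun b => (f b : ℂ) := hb_eq D hf h.k1 (by
    rw [h.sum, classInner_add_left, classInner_irr_self χ₁.2,
      classInner_irr_ne χ₂.2 χ₁.2 (fun h1 => h.ne (Subtype.ext h1.symm)), add_zero]
    exact one_ne_zero)
  have h2 : hb D.U D.B χ₂ = fun b => (f b : ℂ) := hb_eq D hf h.k2 (by
    rw [h.sum, classInner_add_left, classInner_irr_self χ₂.2,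
      classInner_irr_ne χ₁.2 χ₂.2 (fun h1 => h.ne (Subtype.ext h1)), zero_add]
    exact one_ne_zero)
  refine Or.inr ⟨fun h3 => ?_, ?_, h1.trans h2.symm⟩
  · have h4 := congrFun h3 1
    rw [hb_one, h.k2] at h4
    exact one_ne_zero h4
  · rw [h2, ← D.ps_def, h.sum, add_sub_cancel_right]

namespace HS

variable {D : Split G} {Y Z A : Subgroup G} {q : ℕ} (H : HS D Y Z A q) {p n : ℕ} [hp : Fact p.Prime]
  (hq : q = p ^ n)

include H hq

theorem p_dvd : p ∣ q := by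
  have h1 := H.fus.hq
  rw [hq] at h1 ⊢
  refine dvd_pow_self p ?_
  rintro rfl
  rw [pow_zero] at h1
  omega

theorem not_dvd_succ {a : ℕ} (ha : p ∣ a) : ¬ p ∣ a + 1 := fun h =>
  hp.out.one_lt.ne' (Nat.dvd_one.1 ((Nat.dvd_add_right ha).1 h))

theorem not_dvd_pred : ¬ p ∣ q - 1 := fun h => by
  have h1 := H.fus.hq
  refine H.not_dvd_succ hq h ?_
  rw [Nat.sub_add_cancel (by omega)]
  exact H.p_dvd hq

theorem not_dvd_sq : ¬ p ∣ q ^ 2 - q + 1 :=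
  H.not_dvd_succ hq (Nat.dvd_sub ((H.p_dvd hq).trans (dvd_pow_self q two_ne_zero)) (H.p_dvd hq))

theorem not_dvd_T (hZ : ¬ p ∣ Nat.card Z) : ¬ p ∣ Nat.card D.T := by
  rw [H.cT, H.cA]
  exact hp.out.not_dvd_mul (hp.out.not_dvd_mul hZ (H.not_dvd_succ hq (H.p_dvd hq))) (H.not_dvd_pred hq)

theorem fact_G (hZ : ¬ p ∣ Nat.card Z) : (Nat.card G).factorization p = 3 * n := by
  have h1 : Nat.card G = p ^ (3 * n) * ((q ^ 3 + 1) * Nat.card D.T) := by
    rw [D.card_G, D.card_B, H.fus.cU, mul_comm 3 n, pow_mul, ← hq]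
    ring
  have h2 : ¬ p ∣ (q ^ 3 + 1) * Nat.card D.T := hp.out.not_dvd_mul
    (H.not_dvd_succ hq ((H.p_dvd hq).trans (dvd_pow_self q three_ne_zero))) (H.not_dvd_T hq hZ)
  have h0 : (q ^ 3 + 1) * Nat.card D.T ≠ 0 := fun h => h2 (h ▸ dvd_zero p)
  rw [h1, Nat.factorization_mul (pow_ne_zero _ hp.out.ne_zero) h0, Finsupp.add_apply,
    Nat.factorization_eq_zero_of_not_dvd h2, hp.out.factorization_pow, Finsupp.single_eq_same, add_zero]

variable [Fintype (IrrCharacter D.B)]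

theorem nu_HH {ψ : IrrCharacter D.B} (h : ψ ∈ HH D Y) : nu p (ψ : D.B → ℂ) = n :=
  nu_of hp.out (by rw [H.deg_HH h, ← hq]) (H.not_dvd_pred hq)

theorem mem_of_nu (hZ : ¬ p ∣ Nat.card Z) {ψ : IrrCharacter D.B} (h : 0 < nu p (ψ : D.B → ℂ)) : ψ ∈ HH D Y := by
  have := Fintype.ofFinite D.U
  have := H.normal
  by_contra h1
  have h2 := (fx_irr (YB D Y) ψ.2).resolve_right fun h2 => h1 (mem_HH.2 h2)
  obtain ⟨ξ, hξ, h3⟩ := H672.exists_under (f := iU D) ψ.2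
  rw [H672.over_iff] at h3
  have : (Y.comap D.U.subtype).Normal := ⟨fun y hy u => H.fus.nX u (D.UB u.2) y hy⟩
  have h4 : fx (Y.comap D.U.subtype) ξ = ξ := (fx_irr _ hξ).resolve_right fun h4 => h3 (by
    rw [← h2, ← H.fx_iU, inner_fx, h4, classInner_zero_right])
  have h5 : ∀ y ∈ Y.comap D.U.subtype, ξ y = ξ 1 := by
    intro y hy
    have h6 := fx_mul_mem (Y.comap D.U.subtype) ξ 1 hy
    rwa [h4, one_mul] at h6
  have h6 := Central.sum_char_commutator_mul hξ 1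
  rw [Finset.sum_congr rfl fun a _ => Finset.sum_congr rfl fun b _ => h5 _ (by
    rw [mul_one]; exact H.ab a a.2 b b.2)] at h6
  simp only [Finset.sum_const, Finset.card_univ, nsmul_eq_mul, ← Nat.card_eq_fintype_card] at h6
  obtain ⟨d, hd0, hd⟩ := isIrr_apply_one hξ
  have h7 : d = 1 := by
    have h8 : (Nat.card D.U : ℂ) ≠ 0 := card_ne_zero_complex
    have h9 : (d : ℂ) ≠ 0 := by exact_mod_cast hd0.ne'
    rw [hd] at h6
    field_simp at h6
    have h10 : d ^ 2 = 1 := by exact_mod_cast h6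
    exact (Nat.pow_eq_one.1 h10).resolve_right two_ne_zero
  have h8 : (iU D).range = D.U.subgroupOf D.B := Subgroup.inclusion_range D.UB
  have h9 : (D.U.subgroupOf D.B).index = Nat.card D.T := by
    have h10 := (D.U.subgroupOf D.B).card_mul_index
    rw [Nat.card_congr (Subgroup.subgroupOfEquivOfLe D.UB).toEquiv, D.card_B] at h10
    exact Nat.eq_of_mul_eq_mul_left Nat.card_pos h10
  rw [nu_eq_of_inner (iU D) (h8 ▸ D.normal_U) (by rw [h8, h9]; exact H.not_dvd_T hq hZ) ψ.2 hξ h3,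
    nu_zero hp.out hd (by rw [h7]; exact hp.out.not_dvd_one)] at h
  exact lt_irrefl _ h

variable [Fintype D.U] {θ : D.U →* ℂˣ} [Fintype D.B]

theorem cusp_deg (hθ : GG D Z θ) (hk : Nat.card Z * (q ^ 2 + q + 2) ≤ Nat.card (ConjClasses G))
    (hl : (commutator G).index ≤ Nat.card Z) {χ : IrrCharacter G} (h0 : kk D χ = 0) (h : Sing θ χ) :
    nu p (χ : G → ℂ) = n := by
  obtain ⟨ψ, hψ, h1, h2⟩ := (H.matching hθ hk hl).1 χ h
  have h3 := H.degree hθ.ne (isIrr_isClassFunction χ.2)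
  rw [show classInner _ _ = 0 from h0, show classInner _ _ = 0 from h.1, Finset.sum_eq_single_of_mem ψ hψ h2,
    h1, mul_zero, add_zero, zero_add, one_mul] at h3
  exact nu_of hp.out (by rw [h3, ← hq]) (H.not_dvd_pred hq)

theorem exists_sd (hθ : GG D Z θ) (hk : Nat.card Z * (q ^ 2 + q + 2) ≤ Nat.card (ConjClasses G))
    (hl : (commutator G).index ≤ Nat.card Z) (χ : IrrCharacter G) (h0 : 0 < nu p (χ : G → ℂ))
    (h1 : nu p (χ : G → ℂ) < 3 * n) : nu p (χ : G → ℂ) = n ∧ ∃ ρ : IrrCharacter G, Sing θ ρ ∧ SD D.U D.B χ ρ := by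
  have hq3 := H.fus.hq
  have hz : ∀ m : ℕ, (χ : G → ℂ) 1 = m → p ∣ m := by
    intro m hm
    by_contra h2
    rw [nu_zero hp.out hm h2] at h0
    exact lt_irrefl _ h0
  by_cases h2 : kk D χ = 0
  · rcases hθ.one _ χ.2 with h3 | h3
    · have h4 : Sing θ χ := ⟨h3, fun h4 => hp.out.not_dvd_one (hz 1 (by rw [h4, Nat.cast_one]))⟩
      refine ⟨H.cusp_deg hq hθ hk hl h2 h4, χ, h4, Or.inl ⟨?_, rfl⟩⟩
      exact eq_zero_of_deg (hb_char D (isIrr_isCharacter χ.2)) (by rw [hb_one, h2])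
    · exfalso
      have h4 : ∀ ψ : IrrCharacter D.B, ∃ c : ℕ, nn D χ ψ = c := fun ψ =>
        classInner_isNat (Brauer.isCharacter_restrict (isIrr_isCharacter χ.2) _) (isIrr_isCharacter ψ.2)
      choose c hc using h4
      have h5 := H.degree hθ.ne (isIrr_isClassFunction χ.2)
      rw [show classInner _ _ = 0 from h2, h3, Finset.sum_congr rfl fun ψ _ => hc ψ, ← Nat.cast_sum] at h5
      have h6 : 1 ≤ q ^ 2 := Nat.one_le_pow _ _ (by omega)
      have h7 := hz (q ^ 2 - 1 + (∑ ψ ∈ HH D Y, c ψ) * (q * (q - 1))) (by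
        rw [h5, Nat.cast_add, Nat.cast_sub h6]
        push_cast
        ring)
      have h8 := (Nat.dvd_add_left (((H.p_dvd hq).mul_right _).mul_left _)).1 h7
      refine H.not_dvd_succ hq h8 ?_
      rw [Nat.sub_add_cancel h6]
      exact (H.p_dvd hq).trans (dvd_pow_self q two_ne_zero)
  · obtain ⟨f, hf, h3 | ⟨χ₁, χ₂, h3, h4⟩⟩ := H.noncusp hθ.ne χ h2
    · exact (H.not_dvd_succ hq ((H.p_dvd hq).trans (dvd_pow_self q three_ne_zero)) (hz _ h3.1)).elim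
    · rcases h4 with rfl | rfl
      · rcases h3.deg with h5 | h5
        · exact (hp.out.not_dvd_one (hz 1 (by rw [h5.1, Nat.cast_one]))).elim
        · exact (H.not_dvd_sq hq (hz _ h5.1)).elim
      · rcases h3.deg with h5 | h5
        · rw [nu_of hp.out (n := 3 * n) (m := 1) (by rw [h5.2, mul_one, mul_comm 3 n, pow_mul, ← hq])
            hp.out.not_dvd_one] at h1
          exact (lt_irrefl _ h1).elim
        · refine ⟨nu_of hp.out (by rw [h5.2, ← hq]) (H.not_dvd_sq hq), χ₁, ⟨h3.r1, ?_⟩, h3.sd hf⟩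
          rw [h5.1]
          intro h6
          have h7 : q ^ 2 - q + 1 = 1 := by exact_mod_cast h6
          have h8 : q * 3 ≤ q * q := Nat.mul_le_mul_left q hq3
          rw [sq] at h7
          omega

theorem exists_sd' (hθ : GG D Z θ) (hk : Nat.card Z * (q ^ 2 + q + 2) ≤ Nat.card (ConjClasses G))
    (hl : (commutator G).index ≤ Nat.card Z) (ρ : IrrCharacter G) (h : Sing θ ρ) :
    ∃ χ : IrrCharacter G, nu p (χ : G → ℂ) = n ∧ SD D.U D.B χ ρ := by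
  by_cases h2 : kk D ρ = 0
  · exact ⟨ρ, H.cusp_deg hq hθ hk hl h2 h, Or.inl
      ⟨eq_zero_of_deg (hb_char D (isIrr_isCharacter ρ.2)) (by rw [hb_one, h2]), rfl⟩⟩
  · obtain ⟨f, hf, h3 | ⟨χ₁, χ₂, h3, h4⟩⟩ := H.noncusp hθ.ne ρ h2
    · exact (zero_ne_one (h.1.symm.trans h3.2)).elim
    · rcases h4 with rfl | rfl
      · rcases h3.deg with h5 | h5
        · exact (h.2 h5.1).elim
        · exact ⟨χ₂, nu_of hp.out (by rw [h5.2, ← hq]) (H.not_dvd_sq hq), h3.sd hf⟩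
      · exact (zero_ne_one (h.1.symm.trans h3.r2)).elim

/-- **The permutation matrix.** -/
theorem perm (hZ : ¬ p ∣ Nat.card Z) (hθ : GG D Z θ) (hk : Nat.card Z * (q ^ 2 + q + 2) ≤ Nat.card (ConjClasses G))
    (hl : (commutator G).index ≤ Nat.card Z) : Perm p D.U := by
  intro h h0 h1
  rw [H.fact_G hq hZ] at h1
  obtain ⟨x, hx, hx1⟩ := H.fus.exists_x
  obtain ⟨m1, m2⟩ := H.matching hθ hk hl
  have k1 : ∀ χ : IrrCharacter G, nu p (χ : G → ℂ) = h → h = n := fun χ hχ =>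
    hχ.symm.trans (H.exists_sd hq hθ hk hl χ (hχ ▸ h0) (hχ ▸ h1)).1
  have k2 : ∀ ψ : IrrCharacter D.B, nu p (ψ : D.B → ℂ) = h → ψ ∈ HH D Y := fun ψ hψ => H.mem_of_nu hq hZ (hψ ▸ h0)
  refine permAt_of (borel_eq D ⟨x, H.fus.XU hx, hx1⟩) (fun ρ => Sing θ ρ) (fun χ hχ => ?_) (fun ψ hψ ρ hρ => ?_)
    (fun χ hχ ρ hρ => ?_) (fun ψ hψ => m2 ψ (k2 ψ hψ))
  · exact (H.exists_sd hq hθ hk hl χ (hχ ▸ h0) (hχ ▸ h1)).2
  · rw [← hψ, H.nu_HH hq (k2 ψ hψ)]
    exact H.exists_sd' hq hθ hk hl ρ hρ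
  · obtain ⟨ψ, h2, h3, h4⟩ := m1 ρ hρ
    exact ⟨ψ, (H.nu_HH hq h2).trans (k1 χ hχ).symm, h3, fun ψ' h5 h6 => h4 ψ' (k2 ψ' h5) h6⟩

end HS

end Cfsg.Agent.TID.Rk1
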