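import Mathlib
import Cfsg.Agent.TID.Rk1.Perm
import Cfsg.Agent.H664.R1.U3Iso
import Cfsg.Agent.H664.R1.U3Char
import Cfsg.Agent.H710.GelfandBeta

/-!
# S4622, the row `SU3`: the general unitary group (helper17)

* `hs_GU` : the structure `HS` for `GU(3, q)`;
* `exists_gg` : the Gelfand-Graev character is multiplicity free.
-/

set_option autoImplicit false
set_option linter.unusedSectionVars false
set_option linter.unusedSimpArgs false
set_option linter.unusedVariables false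
set_option maxHeartbeats 400000

namespace Cfsg.Agent.TID.Rk1

open Matrix Cfsg Cfsg.Agent.LieRecognition.PSUThreeSylow Cfsg.Agent.LieClassical.HermBasic
open Cfsg.Agent.H664.R1 Cfsg.Agent.H664.R1.U3

section general

variable {F : Type*} [Field F] {σ : F →+* F} [hσ : Fact (∀ x, σ (σ x) = x)]

/-- The centralizer of the root group in the torus. -/
def Ac (σ : F →+* F) [hσ : Fact (∀ x, σ (σ x) = x)] : Subgroup (GUJ σ) where
  carrier := {g | g ∈ To σ ∧ mat σ g 0 0 = mat σ g 2 2}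
  mul_mem' := by
    rintro g h ⟨hg, h1⟩ ⟨hh, k1⟩
    refine ⟨(To σ).mul_mem hg hh, ?_⟩
    obtain ⟨⟨a1, a2, a3⟩, a4, a5, a6⟩ := hg
    obtain ⟨⟨b1, b2, b3⟩, b4, b5, b6⟩ := hh
    rw [mul_entry, mul_entry]
    simp [a1, a2, a3, a4, a5, a6, b1, b2, b3, b4, b5, b6, h1, k1]
  one_mem' := ⟨(To σ).one_mem, rfl⟩
  inv_mem' := by
    rintro g ⟨hg, h1⟩
    refine ⟨(To σ).inv_mem hg, ?_⟩
    rw [inv_entry]
    simp [h1]

theorem dg_mem_Ac {t s : F} {ht : t ≠ 0} {hs : s * σ s = 1} : dg t s ht hs ∈ Ac σ ↔ t * σ t = 1 := by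
  have h0 : σ t ≠ 0 := (map_ne_zero σ).2 ht
  constructor
  · rintro ⟨-, h⟩
    have h1 : t = (σ t)⁻¹ := h
    calc t * σ t = (σ t)⁻¹ * σ t := by rw [← h1]
      _ = 1 := inv_mul_cancel₀ h0
  · intro h
    exact ⟨dg_mem _ _ _ _, eq_inv_of_mul_eq_one_left h⟩

theorem dg_mem_Sc {t s : F} {ht : t ≠ 0} {hs : s * σ s = 1} (h : t * σ s = 1) : dg t s ht hs ∈ Sc σ := by
  have h1 : t = s := by linear_combination s * h - t * hs
  subst h1
  exact ⟨dg_mem _ _ _ _, rfl, eq_inv_of_mul_eq_one_left hs⟩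

theorem exists_unY {x : GUJ σ} (hx : x ∈ Ze σ) : ∃ (b : F) (h : b + σ b + (0 : F) * σ 0 = 0), x = un 0 b h := by
  obtain ⟨hu, hu0⟩ := hx
  obtain ⟨a, b, h, rfl⟩ := exists_un hu
  have ha : a = 0 := hu0
  subst ha
  exact ⟨b, h, rfl⟩

theorem un_zero (h0 : (0 : F) + σ 0 + 0 * σ 0 = 0) : un 0 0 h0 = (1 : GUJ σ) := by
  apply mat_inj
  rw [mat_un, mat_one]
  ext i j
  fin_cases i <;> fin_cases j <;> simp

theorem un_congr {a b a' b' : F} (h : b + σ b + a * σ a = 0) (h' : b' + σ b' + a' * σ a' = 0) (ha : a = a')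
    (hb : b = b') : un a b h = un a' b' h' := by
  subst ha hb
  rfl

/-- The first coordinate. -/
def co (g : GUJ σ) : F := mat σ g 0 1

theorem co_mul {g h : GUJ σ} (hg : g ∈ Un σ) (hh : h ∈ Un σ) : co (g * h) = co g + co h := by
  unfold co
  rw [mul_entry, hg.2.1, hh.2.2.1, hh.1.2.2]
  ring

theorem co_one : co (1 : GUJ σ) = 0 := rfl

theorem co_inv {g : GUJ σ} (hg : g ∈ Un σ) : co g⁻¹ = -co g := by
  have h := co_mul hg ((Un σ).inv_mem hg)
  rw [mul_inv_cancel, co_one] at h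
  linear_combination -h

theorem co_conj (t s : F) (ht : t ≠ 0) (hs : s * σ s = 1) {u : GUJ σ} (hu : u ∈ Un σ) :
    co (dg t s ht hs * u * (dg t s ht hs)⁻¹) = t * σ s * co u := by
  obtain ⟨a, b, h, rfl⟩ := exists_un hu
  rw [dg_conj_un t s ht hs a b h (conj_rel hs h)]
  rfl

theorem cenY {x : GUJ σ} (hx : x ∈ Ze σ) {u : GUJ σ} (hu : u ∈ Un σ) : u * x = x * u := by
  obtain ⟨b, h, rfl⟩ := exists_unY hx
  obtain ⟨a', b', h', rfl⟩ := exists_un hu
  apply mat_inj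
  rw [mat_mul, mat_mul, mat_un, mat_un]
  ext i j
  fin_cases i <;> fin_cases j <;> simp [Matrix.mul_apply, Fin.sum_univ_three, add_comm]

theorem nY {b : GUJ σ} (hb : b ∈ Bo σ) {x : GUJ σ} (hx : x ∈ Ze σ) : b * x * b⁻¹ ∈ Ze σ := by
  obtain ⟨u, hu, t, ht, rfl⟩ := (split' σ).dec b hb
  have h1 : t * x * t⁻¹ ∈ Ze σ := by
    refine ⟨(split' σ).nU t ((split' σ).TB ht) x hx.1, ?_⟩
    obtain ⟨a, s, ha, hs, rfl⟩ := exists_dg ht
    have h2 := co_conj a s ha hs hx.1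
    rw [show co x = 0 from hx.2, mul_zero] at h2
    exact h2
  have h2 : u * t * x * (u * t)⁻¹ = u * (t * x * t⁻¹) * u⁻¹ := by group
  rw [h2, cenY h1 hu, mul_inv_cancel_right]
  exact h1

/-- The field automorphism. -/
def fld (σ : F →+* F) [hσ : Fact (∀ x, σ (σ x) = x)] : GUJ σ →* GUJ σ where
  toFun g := mk ((mat σ g).map σ) (by
    have h := congrArg (fun M : Matrix (Fin 3) (Fin 3) F => M.map σ) (mat_spec g)
    simp only [Matrix.map_mul, Jm_map] at h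
    rw [Matrix.transpose_map] at h
    exact h)
  map_one' := by
    apply mat_inj
    rw [mat_mk, mat_one, Matrix.map_one σ (map_zero σ) (map_one σ)]
  map_mul' g h := by
    apply mat_inj
    rw [mat_mk, mat_mul, mat_mul, mat_mk, mat_mk, Matrix.map_mul]

/-- The anti-automorphism. -/
def tau (g : GUJ σ) : GUJ σ := (fld σ g)⁻¹

theorem tau_mul (g h : GUJ σ) : tau (g * h) = tau h * tau g := by
  rw [tau, map_mul, _root_.mul_inv_rev]
  rfl

theorem mat_tau (g : GUJ σ) : mat σ (tau g) = !![mat σ g 2 2, mat σ g 1 2, mat σ g 0 2;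
    mat σ g 2 1, mat σ g 1 1, mat σ g 0 1; mat σ g 2 0, mat σ g 1 0, mat σ g 0 0] := by
  rw [tau, inv_entry]
  have h : ∀ i j, σ (mat σ (fld σ g) i j) = mat σ g i j := fun i j => hσ.out _
  simp only [h]

theorem tau_tau (g : GUJ σ) : tau (tau g) = g := by
  apply mat_inj
  rw [mat_tau, mat_tau]
  ext i j
  fin_cases i <;> fin_cases j <;> rfl

theorem tau_Un {u : GUJ σ} (hu : u ∈ Un σ) : tau u ∈ Un σ := by
  obtain ⟨⟨h1, h2, h3⟩, h4, h5, h6⟩ := hu
  rw [mem_Un, mat_tau]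
  exact ⟨⟨h3, h2, h1⟩, h6, h5, h4⟩

theorem co_tau {u : GUJ σ} (hu : u ∈ Un σ) : co (tau u) = -σ (co u) := by
  obtain ⟨a, b, h, rfl⟩ := exists_un hu
  unfold co
  rw [mat_tau]
  rfl

theorem tau_Sc {z : GUJ σ} (hz : z ∈ Sc σ) : tau z = z := by
  obtain ⟨⟨⟨a1, a2, a3⟩, a4, a5, a6⟩, h1, h2⟩ := hz
  apply mat_inj
  rw [mat_tau]
  ext i j
  fin_cases i <;> fin_cases j <;> simp [a1, a2, a3, a4, a5, a6, h1, h2]

theorem tau_wel {t : GUJ σ} (ht : t ∈ To σ) : tau (wel' σ * t) = wel' σ * t := by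
  obtain ⟨⟨a1, a2, a3⟩, a4, a5, a6⟩ := ht
  apply mat_inj
  rw [mat_tau]
  ext i j
  fin_cases i <;> fin_cases j <;> simp [mul_entry, mat_wel', a1, a2, a3, a4, a5, a6]

end general

section finite

variable {F : Type*} [Field F] [Fintype F] {q : ℕ} {σ : F →+* F} [hσ : Fact (∀ x, σ (σ x) = x)]

theorem comY (hF : Fintype.card F = q ^ 2) (hs : ∀ x, σ x = x ^ q) {u : GUJ σ} (hu : u ∈ Un σ)
    (huX : u ∉ Ze σ) {x : GUJ σ} (hx : x ∈ Ze σ) : ∃ v ∈ Un σ, v * u * v⁻¹ = u * x := by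
  obtain ⟨c, hc, rfl⟩ := exists_unY hx
  obtain ⟨a, b, h, rfl⟩ := exists_un hu
  have ha : a ≠ 0 := by
    rintro rfl
    exact huX ⟨un_mem _ _ _, rfl⟩
  have hσa : σ a ≠ 0 := (map_ne_zero σ).2 ha
  obtain ⟨z, hz⟩ := exists_trace_eq hF (show (1 : F) ^ q = 1 from one_pow q)
  rw [← hs] at hz
  have e1 : σ c = -c := by
    have : c + σ c = 0 := by simpa using hc
    linear_combination this
  obtain ⟨b1, hb1⟩ := exists_snd (σ := σ) hF hs (-(c * z) / σ a)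
  refine ⟨un _ b1 hb1, un_mem _ _ _, ?_⟩
  rw [mul_inv_eq_iff_eq_mul]
  apply mat_inj
  rw [mat_mul, mat_mul, mat_mul, mat_un, mat_un, mat_un]
  ext i j
  fin_cases i <;> fin_cases j <;>
    simp [Matrix.mul_apply, Fin.sum_univ_three, e1, hσ.out]
  · ring
  · have e2 : -(c * z) / σ a * σ a = -(c * z) := by field_simp
    have e3 : a * (c * σ z / a) = c * σ z := by field_simp
    rw [e2, e3]
    linear_combination c * hz
  · ring

theorem f1Y (hF : Fintype.card F = q ^ 2) (hs : ∀ x, σ x = x ^ q) {x : GUJ σ} (hx : x ∈ Ze σ)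
    (hx1 : x ≠ 1) {y : GUJ σ} (hy : y ∈ Ze σ) (hy1 : y ≠ 1) : ∃ b ∈ Bo σ ⊓ SUs σ, b * x * b⁻¹ = y := by
  obtain ⟨b, h, rfl⟩ := exists_unY hx
  obtain ⟨b', h', rfl⟩ := exists_unY hy
  have hb : b ≠ 0 := by
    rintro rfl
    exact hx1 (un_zero _)
  have hb' : b' ≠ 0 := by
    rintro rfl
    exact hy1 (un_zero _)
  have e1 : σ b = -b := by
    have : b + σ b = 0 := by simpa using h
    linear_combination this
  have e2 : σ b' = -b' := by
    have : b' + σ b' = 0 := by simpa using h'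
    linear_combination this
  have hfix : (b' / b) ^ q = b' / b := by
    rw [← hs, map_div₀, e1, e2, neg_div_neg_eq]
  obtain ⟨t, ht, htn⟩ := exists_norm_eq_ne hF hfix (div_ne_zero hb' hb)
  rw [← hs] at htn
  have h0 : σ t ≠ 0 := (map_ne_zero σ).2 ht
  have hrel : (σ t / t) * σ (σ t / t) = 1 := by
    rw [map_div₀, hσ.out]
    field_simp
  refine ⟨dg t _ ht hrel, ⟨(dg_mem _ _ _ _).1, ?_⟩, ?_⟩
  · show (mat σ _).det = 1
    rw [mat_dg, Matrix.det_fin_three]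
    simp
    field_simp
  · rw [dg_conj_un t _ ht hrel 0 b h (conj_rel hrel h)]
    refine un_congr _ _ (mul_zero _) ?_
    rw [htn]
    field_simp

theorem f2Y (hF : Fintype.card F = q ^ 2) (hs : ∀ x, σ x = x ^ q) {u : GUJ σ} (hu : u ∈ Un σ) (huX : u ∉ Ze σ)
    {v : GUJ σ} (hv : v ∈ Un σ) (hvX : v ∉ Ze σ) : ∃ g, g * u * g⁻¹ = v := by
  have ha : co u ≠ 0 := fun h => huX ⟨hu, h⟩
  have ha' : co v ≠ 0 := fun h => hvX ⟨hv, h⟩
  have h1 : (1 : F) * σ 1 = 1 := by rw [map_one, one_mul]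
  set t := dg (co v / co u) 1 (div_ne_zero ha' ha) h1 with ht
  have h2 : t * u * t⁻¹ ∈ Un σ := (split' σ).nU t (dg_mem _ _ _ _).1 u hu
  have h3 : v⁻¹ * (t * u * t⁻¹) ∈ Ze σ := by
    refine ⟨(Un σ).mul_mem ((Un σ).inv_mem hv) h2, ?_⟩
    show co _ = 0
    rw [co_mul ((Un σ).inv_mem hv) h2, co_inv hv, ht, co_conj _ _ _ _ hu, map_one]
    field_simp
    ring
  obtain ⟨w, -, h4⟩ := comY hF hs hv hvX h3
  refine ⟨w⁻¹ * t, ?_⟩
  rw [mul_inv_cancel_left] at h4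
  have h5 : w⁻¹ * t * u * (w⁻¹ * t)⁻¹ = w⁻¹ * (t * u * t⁻¹) * w := by group
  rw [h5, ← h4]
  group

theorem card_Ac (hF : Fintype.card F = q ^ 2) (hs : ∀ x, σ x = x ^ q) : Nat.card (Ac σ) = (q + 1) * (q + 1) := by
  have hne : ∀ s : F, s * σ s = 1 → s ≠ 0 := fun s h => left_ne_zero_of_mul_eq_one h
  rw [← card_norm_one (σ := σ) hF hs, ← Nat.card_prod]
  refine (Nat.card_congr (Equiv.ofBijective (fun p : {s : F // s * σ s = 1} × {s : F // s * σ s = 1} =>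
    (⟨dg p.1.1 p.2.1 (hne _ p.1.2) p.2.2, dg_mem_Ac.2 p.1.2⟩ : Ac σ)) ⟨?_, ?_⟩)).symm
  · rintro ⟨⟨t, ht⟩, s, hs'⟩ ⟨⟨t', ht'⟩, s', hs''⟩ h
    have h1 := congrArg (fun g : Ac σ => mat σ (g : GUJ σ)) h
    simp only [mat_dg] at h1
    have h2 : t = t' := by simpa using congrFun (congrFun h1 0) 0
    have h3 : s = s' := by simpa using congrFun (congrFun h1 1) 1
    subst h2
    subst h3
    rfl
  · rintro ⟨g, hg⟩
    obtain ⟨t, s, ht, hs', rfl⟩ := exists_dg hg.1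
    exact ⟨(⟨t, dg_mem_Ac.1 hg⟩, ⟨s, hs'⟩), rfl⟩

theorem hs_GU (hF : Fintype.card F = q ^ 2) (hq : 3 ≤ q) (hs : ∀ x, σ x = x ^ q) :
    HS (split' σ) (Ze σ) (Sc σ) (Ac σ) q where
  fus :=
    { hq := hq
      cU := card_Un hF hs
      cX := card_Ze hF hs
      XU := Ze_le
      cen := fun _ hx _ hu => cenY hx hu
      com := fun _ hu huX _ hx => comY hF hs hu huX hx
      nX := fun _ hb _ hx => nY hb hx
      f1 := fun _ hx hx1 _ hy hy1 => by
        obtain ⟨b, hb, h⟩ := f1Y hF hs hx hx1 hy hy1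
        exact ⟨b, hb.1, h⟩
      f2 := fun _ hu huX _ hv hvX => f2Y hF hs hu huX hv hvX }
  ZA := fun _ h => ⟨h.1, h.2.1.trans h.2.2⟩
  AT := fun _ h => h.1
  Zc := fun _ hz g => Sc_comm hz g
  Ay := by
    intro a ha y hy
    obtain ⟨t, s, ht, hs', rfl⟩ := exists_dg ha.1
    obtain ⟨b, h, rfl⟩ := exists_unY hy
    rw [← mul_inv_eq_iff_eq_mul, dg_conj_un t s ht hs' 0 b h (conj_rel hs' h)]
    exact un_congr _ _ (mul_zero _) (by rw [dg_mem_Ac.1 ha, one_mul])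
  fixY := by
    intro a ha haA y hy h1
    obtain ⟨t, s, ht, hs', rfl⟩ := exists_dg ha
    obtain ⟨b, h, rfl⟩ := exists_unY hy
    rw [← mul_inv_eq_iff_eq_mul, dg_conj_un t s ht hs' 0 b h (conj_rel hs' h)] at h1
    have h2 : t * σ t * b = b := congrArg (fun g => mat σ g 0 2) h1
    have h3 : b = 0 := by
      by_contra h4
      exact haA (dg_mem_Ac.2 (mul_right_cancel₀ h4 (h2.trans (one_mul b).symm)))
    subst h3
    exact un_zero _
  fixU := by
    intro a ha haZ u hu h1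
    have hu' : u ∈ Un σ := hu
    have h2 : a * u⁻¹ * a⁻¹ ∈ Un σ := (split' σ).nU a ((split' σ).TB ha) _ ((Un σ).inv_mem hu')
    obtain ⟨t, s, ht, hs', rfl⟩ := exists_dg ha
    have h3 : co (u * (dg t s ht hs' * u⁻¹ * (dg t s ht hs')⁻¹)) = 0 := by
      rw [← mul_assoc, ← mul_assoc]
      exact h1.2
    rw [co_mul hu' h2, co_conj _ _ _ _ ((Un σ).inv_mem hu'), co_inv hu'] at h3
    refine ⟨hu', ?_⟩
    by_contra h4
    apply haZ
    apply dg_mem_Sc
    apply mul_right_cancel₀ (show co u ≠ 0 from h4)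
    linear_combination -h3
  ab := by
    intro u hu v hv
    have hu' : u ∈ Un σ := hu
    have hv' : v ∈ Un σ := hv
    have h1 := (Un σ).mul_mem hu' hv'
    have h2 := (Un σ).mul_mem h1 ((Un σ).inv_mem hu')
    refine ⟨(Un σ).mul_mem h2 ((Un σ).inv_mem hv'), ?_⟩
    show co _ = 0
    rw [co_mul h2 ((Un σ).inv_mem hv'), co_mul h1 ((Un σ).inv_mem hu'), co_mul hu' hv', co_inv hu', co_inv hv']
    ring
  cA := by rw [card_Ac hF hs, card_Sc hF hs]
  cT := by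
    rw [card_Ac hF hs]
    refine (card_To hF hs).trans ?_
    obtain ⟨s, rfl⟩ : ∃ s, q = s + 1 := ⟨q - 1, by omega⟩
    rw [Nat.add_sub_cancel, show (s + 1) ^ 2 = s * (s + 2) + 1 by ring, Nat.add_sub_cancel]
    ring

theorem exists_char (hF : Fintype.card F = q ^ 2) (hq : 3 ≤ q) (hs : ∀ x, σ x = x ^ q) :
    ∃ e : Multiplicative F →* ℂˣ, (∀ a : F, e (Multiplicative.ofAdd (a + σ a)) = 1) ∧
      ∃ x : F, e (Multiplicative.ofAdd x) ≠ 1 := by
  obtain ⟨x, hx⟩ : ∃ x : F, x ∉ (tr σ).range := by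
    by_contra hcon
    push Not at hcon
    have h1 : (tr σ).range = ⊤ := by rwa [AddSubgroup.eq_top_iff']
    have h2 := AddSubgroup.card_eq_card_quotient_mul_card_addSubgroup (tr σ).ker
    rw [Nat.card_congr (QuotientAddGroup.quotientKerEquivRange (tr σ)).toEquiv, h1, AddSubgroup.card_top,
      card_tr_ker hF hs] at h2
    have h3 : 0 < Nat.card F := Nat.card_pos
    nlinarith
  obtain ⟨e, h1, h2⟩ := OddOrderCharacters.PrimeTI.exists_hom_ne_one (G := Multiplicative F)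
    ⟨⟨fun a b => mul_comm a b⟩⟩ (AddSubgroup.toSubgroup (tr σ).range) (w := Multiplicative.ofAdd x) hx
  exact ⟨e, fun a => h1 _ ⟨a, rfl⟩, x, h2⟩

theorem exists_gg (hF : Fintype.card F = q ^ 2) (hq : 3 ≤ q) (hs : ∀ x, σ x = x ^ q) [Fintype (GUJ σ)]
    [Fintype (split' σ).U] : ∃ θ : (split' σ).U →* ℂˣ, GG (split' σ) (Sc σ) θ := by
  obtain ⟨e, he, x, hx⟩ := exists_char hF hq hs
  let θ : (split' σ).U →* ℂˣ :=
    { toFun := fun u => e (Multiplicative.ofAdd (co (u : GUJ σ)))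
      map_one' := map_one e
      map_mul' := fun u v => by
        rw [← map_mul, ← ofAdd_add, ← co_mul u.2 v.2]
        rfl }
  have hθ : ∀ u : (split' σ).U, θ u = e (Multiplicative.ofAdd (co (u : GUJ σ))) := fun _ => rfl
  have hun : ∀ a : F, ∃ v : (split' σ).U, co (v : GUJ σ) = a := by
    intro a
    obtain ⟨b, hb⟩ := exists_snd (σ := σ) hF hs a
    exact ⟨⟨un a b hb, un_mem _ _ _⟩, rfl⟩
  have hmv : ∀ t ∈ (split' σ).T, t ∉ Sc σ → ∃ (v : (split' σ).U) (h : t⁻¹ * (v : GUJ σ) * t ∈ (split' σ).U),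
      θ v ≠ θ ⟨_, h⟩ := by
    intro t ht htZ
    obtain ⟨a, s, ha, hs', h1⟩ := exists_dg ((To σ).inv_mem ht)
    have h2 : 1 - a * σ s ≠ 0 := fun h => htZ (by
      have h3 := (Sc σ).inv_mem (dg_mem_Sc (ht := ha) (hs := hs') (by linear_combination -h))
      rwa [← h1, inv_inv] at h3)
    obtain ⟨v, hv⟩ := hun (x / (1 - a * σ s))
    refine ⟨v, (split' σ).nU' ((split' σ).TB ht) v.2, fun h => hx ?_⟩
    rw [hθ, hθ] at h
    have h3 : co (t⁻¹ * (v : GUJ σ) * t) = a * σ s * co (v : GUJ σ) := by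
      rw [← co_conj a s ha hs' v.2, ← h1, inv_inv]
    have h4 : x = co (v : GUJ σ) + -co (t⁻¹ * (v : GUJ σ) * t) := by
      rw [h3, hv]
      field_simp
      ring
    rw [h4, ofAdd_add, map_mul, h, ofAdd_neg, map_inv, mul_inv_cancel]
  let β : (split' σ).U ≃ (split' σ).U :=
    { toFun := fun u => ⟨tau u, tau_Un u.2⟩
      invFun := fun u => ⟨tau u, tau_Un u.2⟩
      left_inv := fun u => Subtype.ext (tau_tau _)
      right_inv := fun u => Subtype.ext (tau_tau _) }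
  have hβ : ∀ u, θ (β u) = θ u := by
    intro u
    rw [hθ, hθ]
    have h1 : co ((β u : (split' σ).U) : GUJ σ) = co (u : GUJ σ) + -(co (u : GUJ σ) + σ (co (u : GUJ σ))) := by
      rw [show co ((β u : (split' σ).U) : GUJ σ) = _ from co_tau u.2]
      ring
    rw [h1, ofAdd_add, map_mul, ofAdd_neg, map_inv, he, inv_one, mul_one]
  refine ⟨θ, fun h => ?_, hmv, fun χ hχ => ?_⟩
  · obtain ⟨v, hv⟩ := hun x
    apply hx
    rw [← hv, ← hθ, h, MonoidHom.one_apply]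
  · refine H710.GelfandBeta.mult_le_one (split' σ).U.subtype θ tau β tau_mul (fun _ => rfl) hβ (fun g => ?_) hχ
    by_cases hg : g ∈ (split' σ).B
    · obtain ⟨u, hu, t, ht, rfl⟩ := (split' σ).dec g hg
      by_cases htZ : t ∈ Sc σ
      · refine Or.inl ⟨β ⟨u, hu⟩ * ⟨u, hu⟩⁻¹, 1, ?_, ?_⟩
        · show tau (u * t) = tau u * u⁻¹ * (u * t) * 1
          rw [tau_mul, tau_Sc htZ, Sc_comm htZ]
          group
        · rw [map_mul, map_inv, hβ, map_one, mul_one, mul_inv_cancel]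
      · obtain ⟨v, hv, h⟩ := hmv t ht htZ
        refine Or.inr ⟨⟨u, hu⟩ * v * ⟨u, hu⟩⁻¹, ⟨_, hv⟩, ?_, ?_⟩
        · show u * v * u⁻¹ * (u * t) = u * t * (t⁻¹ * v * t)
          group
        · rwa [map_mul, map_mul, map_inv, mul_comm (θ ⟨u, hu⟩), mul_inv_cancel_right]
    · obtain ⟨⟨u, b⟩, h1⟩ := (split' σ).cellEquiv.surjective ⟨g, hg⟩
      have h2 : (u : GUJ σ) * wel' σ * b = g := congrArg Subtype.val h1
      obtain ⟨v, hv, t, ht, h3⟩ := (split' σ).dec b b.2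
      have h4 : t⁻¹ * v * t ∈ (split' σ).U := (split' σ).nU' ((split' σ).TB ht) hv
      have h5 : g = u * (wel' σ * t) * (t⁻¹ * v * t) := by
        rw [← h2, h3]
        group
      refine Or.inl ⟨β ⟨_, h4⟩ * u⁻¹, ⟨_, h4⟩⁻¹ * β u, ?_, ?_⟩
      · show tau g = tau (t⁻¹ * v * t) * (u : GUJ σ)⁻¹ * g * ((t⁻¹ * v * t)⁻¹ * tau u)
        rw [h5, tau_mul, tau_mul (u : GUJ σ), tau_wel ht]
        group
      · rw [map_mul, map_mul, map_inv, map_inv, hβ, hβ, mul_comm (θ ⟨_, h4⟩), mul_assoc, mul_inv_cancel_left,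
          inv_mul_cancel]

end finite

end Cfsg.Agent.TID.Rk1
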