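import Mathlib
import Cfsg.Agent.TID.Rk1.GU
import Cfsg.Agent.TID.Syl.Concl
import Cfsg.Agent.LieClassical.HermPerfect
import Cfsg.Agent.H95.StemCover
import Cfsg.Agent.S2089
import Cfsg.Agent.S0279
import Cfsg.Agent.S0282

/-!
# S4622, the row `SU3` (helper17)

`su3 : TID.SU3`.
-/

set_option autoImplicit false
set_option linter.unusedSectionVars false
set_option maxHeartbeats 400000

namespace Cfsg.Agent.TID.Rk1

open Cfsg Cfsg.Agent.Characters.Core Cfsg.Agent.Characters Cfsg.Agent.TID.Syl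
open Cfsg.Agent.H664.R1 Cfsg.Agent.H664.R1.U3
open Cfsg.Agent.TID.Blk (Nm)
open scoped Pointwise

universe u v

theorem perm_conj {G : Type u} [Group G] [Finite G] {p : ℕ} [Fact p.Prime] (P Q : Sylow p G)
    (h : Perm p (P : Subgroup G)) : Perm p (Q : Subgroup G) := by
  obtain ⟨g, rfl⟩ := MulAction.exists_smul_eq G P Q
  have h1 : Function.Injective (MulAut.conj g).toMonoidHom := (MulAut.conj g).injective
  refine Perm.transfer_sylow (MulAut.conj g).toMonoidHom ?_ P (g • P) rfl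
    (fun y _ hy => h1 (hy.trans (map_one _).symm)) ?_ h
  · rw [MonoidHom.range_eq_top.2 (MulAut.conj g).surjective]
    infer_instance
  · rw [(MonoidHom.ker_eq_bot_iff _).2 h1]
    exact bot_le

theorem HS.irr_res {G : Type u} [Group G] [Fintype G] {D : Split G} {Y Z A : Subgroup G} {q : ℕ} (H : HS D Y Z A q)
    {p n : ℕ} [Fact p.Prime] (hq : q = p ^ n) (hZ : ¬ p ∣ Nat.card Z) {N : Subgroup G} (hN : D.B = N)
    {X : Type v} [Group X] [Finite X] (j : X →* N) (hj : Function.Injective j) {R : Subgroup G} (hR : Hz R D.U Y q)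
    (hRj : R ≤ (N.subtype.comp j).range) (ψ : IrrCharacter N) (h : 0 < nu p (ψ : N → ℂ)) :
    IsIrrCharacter X ((ψ : N → ℂ) ∘ j) := by
  subst hN
  have := Fintype.ofFinite X
  have := finite_irr (G := D.B)
  have := Fintype.ofFinite (IrrCharacter D.B)
  have hψ := H.mem_of_nu hq hZ h
  obtain ⟨η, hη, h1⟩ := H672.exists_under (f := j) ψ.2
  rw [H672.over_iff] at h1
  have : (Y.comap (D.B.subtype.comp j)).Normal := (H.normal.comap j :)
  have h2 : fx (Y.comap (D.B.subtype.comp j)) ((ψ : D.B → ℂ) ∘ j) = 0 := by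
    rw [← fx_comp j _ (YB D Y) ?_ (fun y _ hy => hj (hy.trans (map_one j).symm)), mem_HH.1 hψ]
    · rfl
    · ext b
      constructor
      · rintro ⟨y, hy, rfl⟩
        exact hy
      · intro hb
        obtain ⟨y, hy⟩ := hRj (hR.UR (hR.YU hb))
        have h3 : j y = b := Subtype.ext hy
        refine ⟨y, ?_, h3⟩
        show ((j y : D.B) : G) ∈ Y
        rw [h3]
        exact hb
  have h3 : fx (Y.comap (D.B.subtype.comp j)) η = 0 := (fx_irr _ hη).resolve_left fun h3 => h1 (by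
    rw [← h3, ← inner_fx, h2, classInner_zero_left])
  obtain ⟨c, hc⟩ := hR.dvd_deg (D.B.subtype_injective.comp hj :) hRj (isIrr_isCharacter hη) (by rw [h3]; rfl)
  have h4 : 1 ≤ c := by
    by_contra h5
    apply isIrr_apply_one_ne_zero hη
    rw [hc, show c = 0 by omega, zero_mul, Nat.cast_zero]
  rw [eq_of_deg_le (isCharacter_comp j (isIrr_isCharacter ψ.2)) hη h1
    (by rw [Function.comp_apply, map_one, H.deg_HH hψ]) hc (Nat.le_mul_of_pos_left _ h4)]
  exact hη

section concrete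

open Matrix Cfsg.Agent.LieRecognition.PSUThreeSylow Cfsg.Agent.LieClassical.HermBasic

variable {F : Type} [Field F] [Fintype F] {q : ℕ} {σ : F →+* F} [hσ : Fact (∀ x, σ (σ x) = x)]

theorem index_SUs (hF : Fintype.card F = q ^ 2) (hs : ∀ x, σ x = x ^ q) : (SUs σ).index ∣ q + 1 := by
  let d : GUJ σ →* Fˣ := Matrix.GeneralLinearGroup.det.comp (GUJ σ).subtype
  have h1 : d.ker = SUs σ := by
    ext g
    rw [MonoidHom.mem_ker, mem_SUs, ← Units.val_eq_one]
    rfl
  let K : Subgroup Fˣ :=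
    { carrier := {x | (x : F) * σ x = 1}
      mul_mem' := fun {a b} ha hb => by
        show ((a * b : Fˣ) : F) * σ (a * b : Fˣ) = 1
        have ha' : (a : F) * σ a = 1 := ha
        have hb' : (b : F) * σ b = 1 := hb
        rw [Units.val_mul, map_mul]
        linear_combination ((b : F) * σ b) * ha' + hb'
      one_mem' := by
        show ((1 : Fˣ) : F) * σ (1 : Fˣ) = 1
        rw [Units.val_one, map_one, one_mul]
      inv_mem' := fun {a} ha => by
        show ((a⁻¹ : Fˣ) : F) * σ (a⁻¹ : Fˣ) = 1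
        rw [Units.val_inv_eq_inv_val, map_inv₀, ← mul_inv, show (a : F) * σ a = 1 from ha, inv_one] }
  have h2 : d.range ≤ K := by
    rintro _ ⟨g, rfl⟩
    exact det_norm (mat_spec g)
  have h3 : Nat.card K = q + 1 := by
    rw [← card_norm_one (σ := σ) hF hs]
    exact Nat.card_congr
      { toFun := fun x => ⟨x.1, x.2⟩
        invFun := fun x => ⟨Units.mk0 x.1 (left_ne_zero_of_mul_eq_one x.2), x.2⟩
        left_inv := fun x => Subtype.ext (Units.ext rfl)
        right_inv := fun x => rfl }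
  rw [← h1, Subgroup.index_ker, ← h3]
  exact Subgroup.card_dvd_of_le h2

theorem exists_emb (hF : Fintype.card F = q ^ 2) (hs : ∀ x, σ x = x ^ q) :
    ∃ j : SU 3 F q →* GUJ σ, Function.Injective j ∧ j.range = SUs σ := by
  obtain ⟨T, T', hTT', hT⟩ := exists_T' hF hs
  let e : SUJ σ ≃* Cfsg.SU 3 F q :=
    ((conjT hTT').subgroupMap (SUJ σ)).trans (MulEquiv.subgroupCongr (SU_eq_map hs hTT' hT))
  refine ⟨(toGUJ σ).comp e.symm.toMonoidHom, fun a b h => e.symm.injective ?_, ?_⟩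
  · exact Subtype.ext (Subtype.ext (congrArg (mat σ) h))
  · rw [MonoidHom.range_comp, show e.symm.toMonoidHom.range = ⊤ from MonoidHom.range_eq_top.mpr e.symm.surjective,
      ← MonoidHom.range_eq_map, range_toGUJ]

theorem perm_SU {p n : ℕ} [hp : Fact p.Prime] (hq : q = p ^ n) (hF : Fintype.card F = q ^ 2) (hq3 : 3 ≤ q)
    (hs : ∀ x, σ x = x ^ q) (P : Sylow p (SU 3 F q)) : Perm p (P : Subgroup (SU 3 F q)) := by
  have : Finite (GUJ σ) := inferInstance
  have := Fintype.ofFinite (GUJ σ)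
  have := Fintype.ofFinite (split' σ).U
  have := Fintype.ofFinite (split' σ).B
  have := finite_irr (G := (split' σ).B)
  have := Fintype.ofFinite (IrrCharacter (split' σ).B)
  have H := hs_GU (σ := σ) hF hq3 hs
  have hp1 : ¬ p ∣ q + 1 := H.not_dvd_succ hq (H.p_dvd hq)
  have hZ : ¬ p ∣ Nat.card (Sc σ) := by rwa [card_Sc hF hs]
  obtain ⟨θ, hθ⟩ := exists_gg (σ := σ) hF hq3 hs
  obtain ⟨j, hj, hr⟩ := exists_emb (σ := σ) hF hs
  have hperf := LieClassical.HermPerfect.commutator_SU_eq_top hF le_rfl (by omega : ¬ (3 = 3 ∧ q = 2))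
  have hl : (commutator (GUJ σ)).index ≤ Nat.card (Sc σ) := by
    rw [card_Sc hF hs]
    refine Nat.le_of_dvd (Nat.succ_pos q) ((Subgroup.index_dvd_of_le ?_).trans (index_SUs hF hs))
    rw [← hr, MonoidHom.range_eq_map, ← hperf, commutator_def, Subgroup.map_commutator, commutator_def]
    exact Subgroup.commutator_mono le_top le_top
  have hperm := H.perm hq hZ hθ (by rw [card_Sc hF hs]; exact H198.GUThreeCount.card_classes hF hq3 hs) hl
  let Q : Sylow p (GUJ σ) := Sylow.ofCard (split' σ).U (by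
    rw [H.fact_G hq hZ, H.fus.cU, mul_comm 3 n, pow_mul, ← hq])
  have hQ : (Q : Subgroup (GUJ σ)) ≤ j.range := by rw [hr]; exact Un_le_SUs
  let P₀ : Sylow p (SU 3 F q) := Q.comapOfInjective j hj hQ
  have hn : j.range.Normal := by rw [hr]; infer_instance
  have hmap : (P₀ : Subgroup (SU 3 F q)).map j = Q := Subgroup.map_comap_eq_self hQ
  have hinj : ∀ y ∈ (P₀ : Subgroup (SU 3 F q)), j y = 1 → y = 1 := fun y _ hy => hj (hy.trans (map_one j).symm)
  have hf := hom_of_sylow j hn P₀ Q hmap hinj (by rw [(MonoidHom.ker_eq_bot_iff _).2 hj]; exact bot_le)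
  obtain ⟨x, hx, hx1⟩ := H.fus.exists_x
  have hB : (split' σ).B = Nm (Q : Subgroup (GUJ σ)) := borel_eq (split' σ) ⟨x, H.fus.XU hx, hx1⟩
  have hR : Hz (Bo σ ⊓ SUs σ) (split' σ).U (Ze σ) q :=
    ⟨hq3, H.fus.cU, H.fus.cX, H.fus.XU, le_inf (split' σ).UB Un_le_SUs, H.fus.cen, H.fus.com,
      fun _ h1 h2 _ h3 h4 => f1Y hF hs h1 h2 h3 h4⟩
  refine perm_conj P₀ P fun h h0 h1 => descend hf hj hn (by
    rw [hr]; exact fun h2 => hp1 (h2.trans (index_SUs hF hs))) (fun ψ hψ => ?_) (hperm h h0 ?_)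
  · refine H.irr_res hq hZ hB hf.fN (fun a b hab => Subtype.ext (hj (congrArg Subtype.val hab))) hR ?_ ψ (hψ ▸ h0)
    rintro b ⟨hb1, hb2⟩
    have h2 : b ∈ Nm (Q : Subgroup (GUJ σ)) := hB ▸ hb1
    have h3 : (⟨b, h2⟩ : Nm (Q : Subgroup (GUJ σ))) ∈ hf.fN.range := by
      rw [hf.range_fN, hr]
      exact hb2
    obtain ⟨y, hy⟩ := h3
    exact ⟨y, congrArg Subtype.val hy⟩
  · have h3 := card_eq_of_map j _ _ hmap hinj
    rw [P₀.card_eq_multiplicity, Q.card_eq_multiplicity] at h3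
    rwa [← Nat.pow_right_injective hp.out.two_le h3]

end concrete

/-- **The row `PSU₃(q)`.** -/
theorem su3 : SU3.{u} := by
  refine srow_of_perm (fun p S _ => ∃ (F : Type) (_ : Field F) (_ : Fintype F) (n : ℕ), 1 ≤ n ∧
    Fintype.card F = (p ^ n) ^ 2 ∧ Nonempty (S ≃* PSU 3 F (p ^ n))) ?_ ?_
  · rintro p _ S _ ⟨F, _, _, n, hn, hF, ⟨e⟩⟩
    exact (H476.TI.fit_psu3 hn hF).congr e.toEquiv
  · rintro p hp H S _ _ _ π P hc ⟨F, _, _, n, hn, hF, ⟨e⟩⟩ - - -
    obtain ⟨q, hq⟩ : ∃ q, q = p ^ n := ⟨_, rfl⟩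
    rw [← hq] at hF
    obtain e : S ≃* PSU 3 F q := hq ▸ e
    have := hc.simple
    have hq3 : 3 ≤ q := by
      have h1 : 1 < q := hq ▸ Nat.one_lt_pow (by omega) hp.out.one_lt
      by_contra h2
      have h3 : q = 2 := by omega
      subst h3
      have := (S0282.result (F := F) hF).2
      have h4 : Group.IsSolvable S := Group.isSolvable_of_isSolvable_injective (f := e.toMonoidHom) e.injective
      exact hc.nonab ⟨⟨IsSimpleGroup.comm_iff_isSolvable.2 h4⟩⟩
    have hσ : Fact (∀ x, (LieClassical.HermBasic.conj hF : F →+* F) ((LieClassical.HermBasic.conj hF : F →+* F) x) = x) :=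
      ⟨fun x => LieClassical.HermBasic.pow_q_pow_q hF x⟩
    have hperf := LieClassical.HermPerfect.commutator_SU_eq_top hF le_rfl (by omega : ¬ (3 = 3 ∧ q = 2))
    have hmk := QuotientGroup.mk'_surjective (Subgroup.center (SU 3 F q))
    have hker := QuotientGroup.ker_mk' (Subgroup.center (SU 3 F q))
    have hcard := S0279.result hF 3 le_rfl
    have hg : Nat.gcd 3 (q + 1) ≠ 0 := (Nat.gcd_pos_of_pos_left _ (by norm_num)).ne'
    have : NeZero (Nat.gcd 3 (q + 1)) := ⟨hg⟩
    obtain ⟨φ, hφ, h1⟩ := H95.StemCover.exists_cover' (G := PSU 3 F q) (by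
        rw [commutator_def, ← Subgroup.map_top_of_surjective _ hmk, ← Subgroup.map_commutator, ← commutator_def, hperf])
      (S2089.result 3 q hF le_rfl (by omega) (by simp)) (QuotientGroup.mk' _)
      (H95.StemCover.isStem hperf hmk hker.le) (by rw [hker, hcard, Nat.card_congr Multiplicative.toAdd, Nat.card_zmod])
      hc.perf (e.toMonoidHom.comp π) (e.surjective.comp hc.surj) (fun x hx => hc.cen (by
        rw [MonoidHom.mem_ker] at hx ⊢
        exact e.injective (hx.trans (map_one e).symm)))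
    have h2 : φ.ker ≤ Subgroup.center (SU 3 F q) := by
      intro x hx
      rw [← hker, MonoidHom.mem_ker, ← h1, MonoidHom.mem_ker.1 hx, map_one]
    obtain ⟨P₁, rfl⟩ := Sylow.mapSurjective_surjective hφ p P
    refine Perm.transfer_sylow φ (by rw [MonoidHom.range_eq_top.2 hφ]; infer_instance) P₁ _ rfl (fun y hy h3 => ?_)
      (h2.trans (Subgroup.center_le_normalizer _))
      (perm_SU (σ := (LieClassical.HermBasic.conj hF : F →+* F)) hq hF hq3 (fun _ => rfl) P₁)
    obtain ⟨k, hk⟩ := P₁.2 ⟨y, hy⟩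
    have h4 : orderOf y ∣ p ^ k := orderOf_dvd_of_pow_eq_one (congrArg Subtype.val hk)
    have h5 : orderOf y ∣ q + 1 := by
      have h6 := Subgroup.orderOf_dvd_natCard _ (h2 h3)
      rw [hcard] at h6
      exact h6.trans (Nat.gcd_dvd_right _ _)
    have h6 : Nat.Coprime (p ^ k) (q + 1) := by
      refine Nat.Coprime.pow_left k ((Nat.Prime.coprime_iff_not_dvd hp.out).2 fun h7 => ?_)
      have h8 : p ∣ q := hq ▸ dvd_pow_self p (by omega)
      exact hp.out.not_dvd_one ((Nat.dvd_add_right h8).1 h7)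
    exact orderOf_eq_one_iff.1 (Nat.eq_one_of_dvd_coprimes h6 h4 h5)

end Cfsg.Agent.TID.Rk1
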